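import Groth.Agent.FibDenseLib.Alg
import Groth.Agent.S15350
import Mathlib.AlgebraicGeometry.Morphisms.Smooth

/-! Opens dense in the fibres of smooth morphisms contain, locally, fibrewise regular basic opens. -/

set_option autoImplicit false
set_option linter.unusedSectionVars false
set_option linter.style.haveILetI false
set_option backward.isDefEq.respectTransparency false
set_option backward.isDefEq.respectTransparency.types false
set_option maxHeartbeats 2000000
set_option synthInstance.maxHeartbeats 400000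

universe u

open CategoryTheory AlgebraicGeometry TensorProduct

namespace FibDenseLib

theorem isClosed_complement_minimal {F : Type u} [CommRing F] [IsNoetherianRing F]
    (hdom : ∀ (P : Ideal F) [P.IsPrime], IsDomain (Localization.AtPrime P)) {Q : Ideal F} (hQ : Q ∈ minimalPrimes F) :
    IsClopen (PrimeSpectrum.zeroLocus (Q : Set F)) := by
  refine ⟨PrimeSpectrum.isClosed_zeroLocus _, ?_⟩
  have heq : (PrimeSpectrum.zeroLocus (Q : Set F))ᶜ =
      ⋃ Q' ∈ minimalPrimes F \ {Q}, PrimeSpectrum.zeroLocus (Q' : Set F) := by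
    ext P
    simp only [Set.mem_compl_iff, PrimeSpectrum.mem_zeroLocus, SetLike.coe_subset_coe, Set.mem_iUnion]
    constructor
    · intro hP
      haveI := P.isPrime
      obtain ⟨Q', hQ', hle⟩ := Ideal.exists_minimalPrimes_le (I := (⊥ : Ideal F)) (J := P.asIdeal) bot_le
      exact ⟨Q', ⟨hQ', fun h => hP ((show Q' = Q from h) ▸ hle)⟩, hle⟩
    · rintro ⟨Q', ⟨hQ', hne⟩, hle⟩ hP
      refine hne ?_
      haveI := P.isPrime
      haveI := hdom P.asIdeal
      have key : ∀ R ∈ minimalPrimes F, R ≤ P.asIdeal →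
          R = Ideal.comap (algebraMap F (Localization.AtPrime P.asIdeal)) ⊥ := by
        intro R hR hRP
        haveI : R.IsPrime := hR.1.1
        refine le_antisymm (hR.2 ⟨Ideal.IsPrime.comap _, bot_le⟩ fun a ha => ?_) fun a ha => ?_
        · obtain ⟨⟨c, hc⟩, hc0⟩ := (IsLocalization.map_eq_zero_iff P.asIdeal.primeCompl _ _).1
            (show algebraMap F (Localization.AtPrime P.asIdeal) a = 0 from ha)
          exact ((‹R.IsPrime›.mem_or_mem (show c * a ∈ R by rw [hc0]; exact R.zero_mem))).resolve_left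
            fun h => hc (hRP h)
        · obtain ⟨⟨c, hc⟩, hc0⟩ := (IsLocalization.map_eq_zero_iff P.asIdeal.primeCompl _ _).1
            (show algebraMap F (Localization.AtPrime P.asIdeal) a = 0 from ha)
          exact ((‹R.IsPrime›.mem_or_mem (show c * a ∈ R by rw [hc0]; exact R.zero_mem))).resolve_left
            fun h => hc (hRP h)
      exact (key Q' hQ' hle).trans (key Q hQ hP).symm
  rw [← isClosed_compl_iff, heq]
  exact Set.Finite.isClosed_biUnion ((minimalPrimes.finite_of_isNoetherianRing F).subset Set.diff_subset)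
    fun Q' _ => PrimeSpectrum.isClosed_zeroLocus _

theorem isDomain_fiber (A B : Type u) [CommRing A] [CommRing B] [Algebra A B] [Algebra.Smooth A B] (p : Ideal A)
    [p.IsPrime] : IsNoetherianRing (p.Fiber B) ∧ IsReduced (p.Fiber B) ∧
      ∀ (P : Ideal (p.Fiber B)) [P.IsPrime], IsDomain (Localization.AtPrime P) := by
  haveI : IsNoetherianRing (p.Fiber B) := Algebra.FiniteType.isNoetherianRing p.ResidueField _
  have hn : EGA4.IsNormalRing (p.Fiber B) :=
    NorLocLib.isNormalRing_of_smooth p.ResidueField _ (GeomRedFibLib.isNormalRing_field _)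
  exact ⟨inferInstance, isReduced_ofLocalizationMaximal (p.Fiber B) (fun m _ =>
    (haveI := (hn m).1; inferInstance)), fun P _ => (hn P).1⟩

/-- Near every point at which an open is dense in the fibre of a smooth algebra there is a fibrewise regular basic open
inside it. -/
theorem exists_ur_basicOpen (A B : Type u) [CommRing A] [CommRing B] [Algebra A B] [Algebra.Smooth A B]
    (U : Set (PrimeSpectrum B)) (hU : IsOpen U) (x : PrimeSpectrum B)
    (hd : x ∈ closure (U ∩ {y | PrimeSpectrum.comap (algebraMap A B) y = PrimeSpectrum.comap (algebraMap A B) x})) :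
    ∃ g h : B, g ∉ x.asIdeal ∧ (PrimeSpectrum.basicOpen h : Set (PrimeSpectrum B)) ⊆ U ∧
      UR A (Localization.Away g) (algebraMap B (Localization.Away g) h) := by
  classical
  let p := PrimeSpectrum.comap (algebraMap A B) x
  let e := PrimeSpectrum.preimageHomeomorphFiber A B p
  obtain ⟨hN, -, hdom⟩ := isDomain_fiber A B p.asIdeal
  haveI := hN
  let x' : PrimeSpectrum (p.asIdeal.Fiber B) := e ⟨x, rfl⟩
  haveI := x'.isPrime
  obtain ⟨Q, hQ, hQx⟩ := Ideal.exists_minimalPrimes_le (I := (⊥ : Ideal (p.asIdeal.Fiber B))) (J := x'.asIdeal) bot_le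
  haveI : Q.IsPrime := hQ.1.1
  have hclop := isClosed_complement_minimal hdom hQ
  let Z : Set ↥(PrimeSpectrum.comap (algebraMap A B) ⁻¹' {p}) := e ⁻¹' PrimeSpectrum.zeroLocus (Q : Set _)
  have hxZ : (⟨x, rfl⟩ : ↥(PrimeSpectrum.comap (algebraMap A B) ⁻¹' {p})) ∈ Z :=
    (PrimeSpectrum.mem_zeroLocus _ _).2 hQx
  obtain ⟨O, hO, hOZ⟩ : ∃ O, IsOpen O ∧ Subtype.val ⁻¹' O = Z :=
    isOpen_induced_iff.1 (hclop.2.preimage e.continuous : IsOpen Z)
  have hxO : x ∈ O := by
    have h1 := hxZ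
    rw [← hOZ] at h1
    exact h1
  obtain ⟨w, hwO, hwU, hwp⟩ := mem_closure_iff.1 hd O hO hxO
  obtain ⟨_, ⟨h, rfl⟩, hwh, hhU⟩ := PrimeSpectrum.isTopologicalBasis_basic_opens.exists_subset_of_mem_open hwU hU
  have hwZ : (⟨w, hwp⟩ : ↥(PrimeSpectrum.comap (algebraMap A B) ⁻¹' {p})) ∈ Z := by
    rw [← hOZ]
    exact hwO
  -- connected components of the fibres meeting the basic open
  let φ : CommRingCat.of A ⟶ CommRingCat.of B := CommRingCat.ofHom (algebraMap A B)
  haveI : Smooth (Spec.map φ) := (HasRingHomProperty.Spec_iff (P := @Smooth)).2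
    (RingHom.smooth_algebraMap.2 ‹_›)
  let D : (Spec (CommRingCat.of B)).Opens := PrimeSpectrum.basicOpen h
  obtain ⟨N, hN'⟩ := Groth.Agent.S15350.result (Spec.map φ) (D.ι ≫ Spec.map φ) D.ι rfl
  have hcomp : x ∈ connectedComponentIn ((Spec.map φ).base ⁻¹' {p}) w := by
    have hirr : _root_.IsPreconnected (Subtype.val '' Z : Set (PrimeSpectrum B)) := by
      refine (_root_.IsPreconnected.preimage_of_isClosedMap ?_ e.injective e.isClosedMap ?_).image _
        continuous_subtype_val.continuousOn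
      · exact (((PrimeSpectrum.isIrreducible_zeroLocus_iff _).2
          (by rw [Ideal.IsPrime.radical ‹_›]; infer_instance)).isConnected).isPreconnected
      · exact fun z _ => ⟨e.symm z, e.apply_symm_apply z⟩
    refine hirr.subset_connectedComponentIn ⟨_, hwZ, rfl⟩ ?_ ⟨_, hxZ, rfl⟩
    rintro _ ⟨z, -, rfl⟩
    exact z.2
  have hxN : (show ↥(Spec (CommRingCat.of B)) from x) ∈ (N : Set ↥(Spec (CommRingCat.of B))) := by
    refine (show (show ↥(Spec (CommRingCat.of B)) from x) ∈ (N : Set ↥(Spec (CommRingCat.of B))) ∩ (Spec.map φ).base ⁻¹' {p} from ?_).1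
    rw [hN' p]
    exact Set.mem_biUnion ⟨⟨⟨w, hwh⟩, rfl⟩, hwp⟩ hcomp
  obtain ⟨_, ⟨g, rfl⟩, hxg, hgN⟩ := PrimeSpectrum.isTopologicalBasis_basic_opens.exists_subset_of_mem_open hxN N.2
  refine ⟨g, h, hxg, hhU, UR.of_residueField fun q _ => ?_⟩
  let Bg := Localization.Away g
  haveI : Algebra.Smooth A Bg := Algebra.Smooth.comp A B Bg
  obtain ⟨hN₁, hR₁, -⟩ := isDomain_fiber A Bg q
  haveI := hN₁
  haveI := hR₁
  obtain ⟨hN₀, -, hdom₀⟩ := isDomain_fiber A B q
  haveI := hN₀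
  let e₁ := PrimeSpectrum.preimageOrderIsoFiber A Bg ⟨q, inferInstance⟩
  let e₀ := PrimeSpectrum.preimageHomeomorphFiber A B ⟨q, inferInstance⟩
  let o₀ := PrimeSpectrum.preimageOrderIsoFiber A B ⟨q, inferInstance⟩
  suffices hmin : ∀ R ∈ minimalPrimes (q.Fiber Bg), ((1 : q.ResidueField) ⊗ₜ[A] algebraMap B Bg h) ∉ R by
    intro a b hab
    rw [← sub_eq_zero]
    refine (IsReduced.eq_zero _ ?_)
    rw [← mem_nilradical, nilradical, ← Ideal.sInf_minimalPrimes, Submodule.mem_sInf]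
    intro R hR
    haveI hRp : Ideal.IsPrime R := hR.1.1
    refine (hRp.mem_or_mem ?_).resolve_left (hmin R hR)
    rw [mul_sub, show _ * a = _ * b from hab, sub_self]
    exact Submodule.zero_mem R
  intro R hR
  haveI : R.IsPrime := hR.1.1
  let R' : PrimeSpectrum (q.Fiber Bg) := ⟨R, inferInstance⟩
  let z := e₁.symm R'
  let z₀ : PrimeSpectrum B := PrimeSpectrum.comap (algebraMap B Bg) z.1
  have hz₀q : PrimeSpectrum.comap (algebraMap A B) z₀ = (⟨q, inferInstance⟩ : PrimeSpectrum A) := by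
    refine Eq.trans ?_ z.2
    rw [← PrimeSpectrum.comap_comp_apply, ← IsScalarTower.algebraMap_eq]
  have hz₀g : z₀ ∈ PrimeSpectrum.basicOpen g := fun hg =>
    z.1.isPrime.ne_top (Ideal.eq_top_of_isUnit_mem _ hg (IsLocalization.Away.algebraMap_isUnit g))
  -- `z₀` is maximal in its fibre
  let Z₀ : PrimeSpectrum (q.Fiber B) := o₀ ⟨z₀, hz₀q⟩
  have hmin₀ : Z₀.asIdeal ∈ minimalPrimes (q.Fiber B) := by
    refine ⟨⟨Z₀.isPrime, bot_le⟩, fun P' hP' hle => ?_⟩
    haveI := hP'.1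
    let y := o₀.symm ⟨P', hP'.1⟩
    have hy : y ≤ (⟨z₀, hz₀q⟩ : ↥(PrimeSpectrum.comap (algebraMap A B) ⁻¹' {(⟨q, inferInstance⟩ : PrimeSpectrum A)})) := by
      rw [← o₀.le_iff_le, o₀.apply_symm_apply]
      exact hle
    have hyg : y.1 ∈ PrimeSpectrum.basicOpen g := fun hg => hz₀g (hy hg)
    obtain ⟨y₁, hy₁⟩ : y.1 ∈ Set.range (PrimeSpectrum.comap (algebraMap B Bg)) := by
      rw [PrimeSpectrum.localization_away_comap_range Bg g]
      exact hyg
    have hy₁q : PrimeSpectrum.comap (algebraMap A Bg) y₁ = (⟨q, inferInstance⟩ : PrimeSpectrum A) := by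
      rw [IsScalarTower.algebraMap_eq A B Bg, PrimeSpectrum.comap_comp_apply, hy₁]
      exact y.2
    have hy₁z : y₁.asIdeal ≤ z.1.asIdeal := by
      rw [← IsLocalization.map_comap (Submonoid.powers g) Bg y₁.asIdeal,
        ← IsLocalization.map_comap (Submonoid.powers g) Bg z.1.asIdeal]
      refine Ideal.map_mono ?_
      show y₁.asIdeal.comap (algebraMap B Bg) ≤ z.1.asIdeal.comap (algebraMap B Bg)
      have h2 := hy
      rw [show y₁.asIdeal.comap (algebraMap B Bg) = y.1.asIdeal from congrArg PrimeSpectrum.asIdeal hy₁]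
      exact h2
    have hR' : e₁ ⟨y₁, hy₁q⟩ ≤ R' := by
      rw [← e₁.le_symm_apply]
      exact hy₁z
    have hRle : R ≤ (e₁ ⟨y₁, hy₁q⟩).asIdeal := hR.2 ⟨(e₁ ⟨y₁, hy₁q⟩).isPrime, bot_le⟩ hR'
    have heq : (⟨y₁, hy₁q⟩ : ↥(PrimeSpectrum.comap (algebraMap A Bg) ⁻¹' {(⟨q, inferInstance⟩ : PrimeSpectrum A)})) = z := by
      apply e₁.injective
      rw [e₁.apply_symm_apply]
      exact le_antisymm hR' hRle
    have hy₀ : y = ⟨z₀, hz₀q⟩ := Subtype.ext (hy₁.symm.trans (congrArg (fun t => PrimeSpectrum.comap (algebraMap B Bg) t.1) heq))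
    have := congrArg o₀ hy₀
    rw [o₀.apply_symm_apply] at this
    exact (congrArg PrimeSpectrum.asIdeal this).ge
  have hclop₀ := isClosed_complement_minimal hdom₀ hmin₀
  have hzN : (show ↥(Spec (CommRingCat.of B)) from z₀) ∈ (N : Set ↥(Spec (CommRingCat.of B))) ∩ (Spec.map φ).base ⁻¹' {(⟨q, inferInstance⟩ : PrimeSpectrum A)} :=
    ⟨hgN hz₀g, hz₀q⟩
  rw [hN' ⟨q, inferInstance⟩] at hzN
  obtain ⟨w₀, ⟨⟨d, rfl⟩, hw₀q⟩, hzw⟩ := Set.mem_iUnion₂.1 hzN
  have hw₀h : (D.ι.base d : PrimeSpectrum B) ∈ PrimeSpectrum.basicOpen h := d.2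
  -- the component of `w₀` lies over `Z₀`
  let Z' : Set ↥(PrimeSpectrum.comap (algebraMap A B) ⁻¹' {(⟨q, inferInstance⟩ : PrimeSpectrum A)}) :=
    e₀ ⁻¹' PrimeSpectrum.zeroLocus (Z₀.asIdeal : Set _)
  have hw₀Z : (⟨D.ι.base d, hw₀q⟩ : ↥(PrimeSpectrum.comap (algebraMap A B) ⁻¹' {(⟨q, inferInstance⟩ : PrimeSpectrum A)})) ∈ Z' := by
    have hcl : IsClopen Z' := hclop₀.preimage e₀.continuous
    have hzZ : (⟨z₀, hz₀q⟩ : ↥(PrimeSpectrum.comap (algebraMap A B) ⁻¹' {(⟨q, inferInstance⟩ : PrimeSpectrum A)})) ∈ Z' :=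
      (PrimeSpectrum.mem_zeroLocus _ _).2 (le_refl _)
    rw [connectedComponentIn_eq_image hw₀q] at hzw
    obtain ⟨z', hz', hz'eq⟩ := hzw
    have hz'Z : z' ∈ Z' := by
      rw [show z' = (⟨z₀, hz₀q⟩ : ↥(PrimeSpectrum.comap (algebraMap A B) ⁻¹' {(⟨q, inferInstance⟩ : PrimeSpectrum A)})) from
        Subtype.ext hz'eq]
      exact hzZ
    exact hcl.connectedComponent_subset hz'Z (connectedComponent_eq hz' ▸ mem_connectedComponent)
  have hle : z₀.asIdeal ≤ (D.ι.base d : PrimeSpectrum B).asIdeal := by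
    have h2 : o₀ ⟨z₀, hz₀q⟩ ≤ o₀ ⟨D.ι.base d, hw₀q⟩ := (PrimeSpectrum.mem_zeroLocus _ _).1 hw₀Z
    exact o₀.le_iff_le.1 h2
  intro hmem
  refine hw₀h (hle ?_)
  show algebraMap B Bg h ∈ z.1.asIdeal
  have h3 : z.1.asIdeal = R.comap (Algebra.TensorProduct.includeRight : Bg →ₐ[A] q.Fiber Bg).toRingHom := rfl
  rw [h3]
  exact hmem

end FibDenseLib
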