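import Groth.Agent.FibDenseLib.Sections
import Groth.Agent.FibDenseLib.Nhd
import Groth.Agent.EtProperH0Lib.UnitIso

/-! Opens dense in the fibres of a smooth morphism: sections of sheaves from the base do not change. -/

set_option autoImplicit false
set_option linter.unusedSectionVars false
set_option linter.style.haveILetI false
set_option backward.isDefEq.respectTransparency false
set_option backward.isDefEq.respectTransparency.types false
set_option maxHeartbeats 2000000
set_option synthInstance.maxHeartbeats 400000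

universe u

open CategoryTheory CategoryTheory.Limits AlgebraicGeometry Opposite EtDescentLib

namespace FibDenseLib

noncomputable section

variable {S : Scheme.{u}} {P : (Over S)ᵒᵖ ⥤ Type (u + 1)}

/-- Basic opens of affine charts over the base. -/
structure Chart {V : Scheme.{u}} (f : V ⟶ S) where
  A : Type u
  [cA : CommRing A]
  B : Type u
  [cB : CommRing B]
  [alg : Algebra A B]
  [sm : Algebra.Smooth A B]
  a : Spec (CommRingCat.of A) ⟶ S
  b : Spec (CommRingCat.of B) ⟶ V
  [hb : IsOpenImmersion b]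
  w : Spec.map (CommRingCat.ofHom (algebraMap A B)) ≫ a = b ≫ f
  h : B
  ur : UR A B h

attribute [instance] Chart.cA Chart.cB Chart.alg Chart.sm Chart.hb

variable {V : Scheme.{u}} {f : V ⟶ S}

/-- The chart as an object over `S`. -/
abbrev Chart.N (c : Chart f) : Over S := Over.mk (c.b ≫ f)

/-- Its basic open. -/
abbrev Chart.Nh (c : Chart f) : Over S :=
  Over.mk (Spec.map (CommRingCat.ofHom (algebraMap c.B (Localization.Away c.h))) ≫ c.b ≫ f)

/-- The inclusion of the basic open. -/
abbrev Chart.k (c : Chart f) : c.Nh ⟶ c.N :=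
  Over.homMk (Spec.map (CommRingCat.ofHom (algebraMap c.B (Localization.Away c.h)))) rfl

theorem Chart.bijective (c : Chart f) (hP : HasGerms P) : Function.Bijective (P.map c.k.op) := by
  have h1 := bijective_rs_away (EtProperH0Lib.hasGerms_restrict hP c.a) c.ur
  let e : c.Nh ≅ (Over.map c.a).obj (ov c.A (Localization.Away c.h)) := Over.isoMk (Iso.refl _) (by
    show 𝟙 _ ≫ Spec.map (CommRingCat.ofHom (algebraMap c.A (Localization.Away c.h))) ≫ c.a = _
    rw [Category.id_comp, IsScalarTower.algebraMap_eq c.A c.B (Localization.Away c.h), CommRingCat.ofHom_comp,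
      Spec.map_comp, Category.assoc, c.w]
    rfl)
  let e' : c.N ≅ (Over.map c.a).obj (ov c.A c.B) := Over.isoMk (Iso.refl _) (by
    show 𝟙 _ ≫ Spec.map (CommRingCat.ofHom (algebraMap c.A c.B)) ≫ c.a = _
    rw [Category.id_comp, c.w]
    rfl)
  have h2 : c.k = e.hom ≫ (Over.map c.a).map (ovm (IsScalarTower.toAlgHom c.A c.B (Localization.Away c.h))) ≫ e'.inv :=
    Over.OverMorphism.ext (by
      show _ = 𝟙 _ ≫ Spec.map (CommRingCat.ofHom (algebraMap c.B (Localization.Away c.h))) ≫ 𝟙 _
      rw [Category.id_comp]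
      exact (Category.comp_id _).symm)
  have i1 := (ConcreteCategory.isIso_iff_bijective (P.map e.hom.op)).1 inferInstance
  have i2 := (ConcreteCategory.isIso_iff_bijective (P.map e'.inv.op)).1 inferInstance
  have h3 := i1.comp (Function.Bijective.comp h1 i2)
  convert h3 using 1
  funext x
  rw [h2, map_comp_apply', map_comp_apply']
  rfl

/-- Restriction of a chart to a basic open. -/
def Chart.restrict (c : Chart f) (g : c.B) : Chart f :=
  haveI : Algebra.Smooth c.A (Localization.Away g) := Algebra.Smooth.comp c.A c.B _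
  haveI : IsOpenImmersion (Spec.map (CommRingCat.ofHom (algebraMap c.B (Localization.Away g)))) :=
    IsOpenImmersion.of_isLocalization g
  { A := c.A
    B := Localization.Away g
    a := c.a
    b := Spec.map (CommRingCat.ofHom (algebraMap c.B (Localization.Away g))) ≫ c.b
    w := by
      rw [IsScalarTower.algebraMap_eq c.A c.B (Localization.Away g), CommRingCat.ofHom_comp, Spec.map_comp,
        Category.assoc, Category.assoc, c.w]
    h := algebraMap c.B (Localization.Away g) c.h
    ur := haveI : Module.Flat c.B (Localization.Away g) := IsLocalization.flat _ (Submonoid.powers g)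
      c.ur.of_flat }

/-- A fibrewise regular chart inside a fibrewise dense open. -/
theorem exists_chart [Smooth f] (U : V.Opens)
    (hd : ∀ x : V, x ∈ closure ((U : Set V) ∩ {y : V | f.base y = f.base x})) (x : V) :
    ∃ c : Chart f, x ∈ Set.range c.b ∧ ∀ z : PrimeSpectrum c.B, c.h ∉ z.asIdeal → c.b.base z ∈ U := by
  obtain ⟨U₀, hU₀, hyU, -⟩ := exists_isAffineOpen_mem_and_subset (x := f.base x) (U := (⊤ : S.Opens)) trivial
  obtain ⟨V₀, hV₀, hxV, hVU⟩ := exists_isAffineOpen_mem_and_subset (x := x) (U := f ⁻¹ᵁ U₀) hyU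
  letI : Algebra Γ(S, U₀) Γ(V, V₀) := (f.appLE U₀ V₀ hVU).hom.toAlgebra
  haveI : Algebra.Smooth Γ(S, U₀) Γ(V, V₀) := by
    haveI : Smooth (hV₀.fromSpec ≫ f) := inferInstance
    have h1 : Smooth (Spec.map (f.appLE U₀ V₀ hVU) ≫ hU₀.fromSpec) := by
      rw [hU₀.SpecMap_appLE_fromSpec f hV₀ hVU]
      infer_instance
    have h2 : Smooth (Spec.map (f.appLE U₀ V₀ hVU)) := MorphismProperty.of_isPullback (P := @Smooth)
      (IsPullback.of_horiz_isIso_mono (fst := 𝟙 _) (snd := Spec.map (f.appLE U₀ V₀ hVU))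
        (f := Spec.map (f.appLE U₀ V₀ hVU) ≫ hU₀.fromSpec) (g := hU₀.fromSpec) ⟨by simp⟩) h1
    exact RingHom.smooth_algebraMap.1 ((HasRingHomProperty.Spec_iff (P := @Smooth)).1 h2)
  obtain ⟨x₀, rfl⟩ : x ∈ Set.range hV₀.fromSpec := by
    rw [hV₀.range_fromSpec]
    exact hxV
  have hw : Spec.map (f.appLE U₀ V₀ hVU) ≫ hU₀.fromSpec = hV₀.fromSpec ≫ f := hU₀.SpecMap_appLE_fromSpec f hV₀ hVU
  have hfib : ∀ z : Spec Γ(V, V₀), f.base (hV₀.fromSpec z) = f.base (hV₀.fromSpec x₀) →
      (PrimeSpectrum.comap (algebraMap Γ(S, U₀) Γ(V, V₀)) z) = PrimeSpectrum.comap (algebraMap Γ(S, U₀) Γ(V, V₀)) x₀ :=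
    fun z hz => by
      refine hU₀.fromSpec.isOpenEmbedding.injective ?_
      show (Spec.map (f.appLE U₀ V₀ hVU) ≫ hU₀.fromSpec).base z = (Spec.map (f.appLE U₀ V₀ hVU) ≫ hU₀.fromSpec).base x₀
      rw [hw]
      exact hz
  obtain ⟨g, h, hg, hhU, hur⟩ := exists_ur_basicOpen Γ(S, U₀) Γ(V, V₀)
    (hV₀.fromSpec ⁻¹' (U : Set V)) (U.2.preimage hV₀.fromSpec.continuous) x₀ (by
      have h1 : x₀ ∈ hV₀.fromSpec ⁻¹' closure ((U : Set V) ∩ {y : V | f.base y = f.base (hV₀.fromSpec x₀)}) :=
        hd (hV₀.fromSpec x₀)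
      rw [hV₀.fromSpec.isOpenEmbedding.isOpenMap.preimage_closure_eq_closure_preimage hV₀.fromSpec.continuous] at h1
      refine closure_mono ?_ h1
      exact fun z hz => ⟨hz.1, hfib z hz.2⟩)
  haveI : Algebra.Smooth Γ(S, U₀) (Localization.Away g) := Algebra.Smooth.comp Γ(S, U₀) Γ(V, V₀) _
  haveI : IsOpenImmersion (Spec.map (CommRingCat.ofHom (algebraMap Γ(V, V₀) (Localization.Away g)))) :=
    IsOpenImmersion.of_isLocalization g
  refine ⟨{ A := Γ(S, U₀), B := Localization.Away g, a := hU₀.fromSpec,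
            b := Spec.map (CommRingCat.ofHom (algebraMap Γ(V, V₀) (Localization.Away g))) ≫ hV₀.fromSpec,
            w := by
              rw [IsScalarTower.algebraMap_eq Γ(S, U₀) Γ(V, V₀) (Localization.Away g), CommRingCat.ofHom_comp,
                Spec.map_comp, Category.assoc, Category.assoc]
              exact congrArg (_ ≫ ·) hw,
            h := algebraMap Γ(V, V₀) (Localization.Away g) h, ur := hur }, ?_, fun z hz => hhU hz⟩
  obtain ⟨z, hz⟩ : x₀ ∈ Set.range (PrimeSpectrum.comap (algebraMap Γ(V, V₀) (Localization.Away g))) := by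
    rw [PrimeSpectrum.localization_away_comap_range (Localization.Away g) g]
    exact hg
  exact ⟨z, congrArg hV₀.fromSpec hz⟩

/-- The open as an object over `S`. -/
abbrev incl (f : V ⟶ S) (U : V.Opens) : Over.mk (U.ι ≫ f) ⟶ Over.mk f := Over.homMk U.ι rfl

/-- The morphism of a chart. -/
abbrev Chart.bm (c : Chart f) : c.N ⟶ Over.mk f := Over.homMk c.b rfl

theorem exists_factor_open (U : V.Opens) (c : Chart f) (hc : ∀ z : PrimeSpectrum c.B, c.h ∉ z.asIdeal → c.b.base z ∈ U) :
    ∃ m : c.Nh ⟶ Over.mk (U.ι ≫ f), m ≫ incl f U = c.k ≫ c.bm := by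
  have hr : Set.range (Spec.map (CommRingCat.ofHom (algebraMap c.B (Localization.Away c.h))) ≫ c.b) ⊆ Set.range U.ι := by
    rw [Scheme.Opens.range_ι]
    rintro _ ⟨z, rfl⟩
    refine hc (PrimeSpectrum.comap (algebraMap c.B (Localization.Away c.h)) z) fun hz => ?_
    exact z.isPrime.ne_top (Ideal.eq_top_of_isUnit_mem _ hz (IsLocalization.Away.algebraMap_isUnit c.h))
  exact ⟨Over.homMk (IsOpenImmersion.lift U.ι _ hr) (by
    show IsOpenImmersion.lift U.ι _ hr ≫ U.ι ≫ f = _
    rw [IsOpenImmersion.lift_fac_assoc, Category.assoc]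
    rfl), Over.OverMorphism.ext (IsOpenImmersion.lift_fac _ _ _)⟩

theorem injective_of_dense (hP : HasGerms P) [Smooth f] (U : V.Opens)
    (hd : ∀ x : V, x ∈ closure ((U : Set V) ∩ {y : V | f.base y = f.base x})) :
    Function.Injective (P.map (incl f U).op) := by
  intro s t hst
  refine hP.ext fun G a hG => ?_
  obtain ⟨y⟩ := hG.nonempty
  obtain ⟨c, ⟨w, hw⟩, hc⟩ := exists_chart U hd (a.left y)
  haveI : Etale c.bm.left := inferInstanceAs (Etale c.b)
  obtain ⟨b, hb, -⟩ := EtDescentLib.exists_lift c.bm a hG w fun y' => by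
    rw [hG.subsingleton y' y]
    exact hw.symm
  obtain ⟨m, hm⟩ := exists_factor_open U c hc
  have h1 : P.map c.bm.op s = P.map c.bm.op t := by
    refine (c.bijective hP).1 ?_
    rw [← map_comp_apply', ← map_comp_apply', ← hm, map_comp_apply', map_comp_apply', hst]
  rw [← hb, map_comp_apply', map_comp_apply', h1]

/-- Sections over a smooth scheme are sections over a fibrewise dense open. -/
theorem bijective_of_dense (hP : HasGerms P) [Smooth f] (U : V.Opens)
    (hd : ∀ x : V, x ∈ closure ((U : Set V) ∩ {y : V | f.base y = f.base x})) :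
    Function.Bijective (P.map (incl f U).op) := by
  refine ⟨injective_of_dense hP U hd, fun y => ?_⟩
  choose c hxc hc using exists_chart U hd
  choose m hm using fun x => exists_factor_open U (c x) (hc x)
  have hσ : ∀ x, ∃ σ : P.obj (op (c x).N), P.map (c x).k.op σ = P.map (m x).op y := fun x =>
    ((c x).bijective hP).2 _
  choose σ hσ using hσ
  -- the extensions agree with the given section on the open
  have hU : ∀ (x : V) (G : Over S) (a : G ⟶ (c x).N) (b : G ⟶ Over.mk (U.ι ≫ f)), IsGeo G.left →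
      a ≫ (c x).bm = b ≫ incl f U → P.map a.op (σ x) = P.map b.op y := by
    intro x G a b hG hab
    obtain ⟨y₁⟩ := hG.nonempty
    let z : PrimeSpectrum (c x).B := a.left y₁
    have hzU : (c x).b.base z ∈ U := by
      have h1 : ((a ≫ (c x).bm).left : G.left ⟶ V) y₁ ∈ (U : Set V) := by
        rw [hab]
        exact (b.left y₁).2
      exact h1
    obtain ⟨_, ⟨g, rfl⟩, hzg, hgU⟩ := PrimeSpectrum.isTopologicalBasis_basic_opens.exists_subset_of_mem_open
      (show z ∈ ((c x).b.base ⁻¹' (U : Set V) : Set (PrimeSpectrum (c x).B)) from hzU)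
      (U.2.preimage (c x).b.continuous)
    let c' := (c x).restrict g
    let j : c'.N ⟶ (c x).N :=
      Over.homMk (Spec.map (CommRingCat.ofHom (algebraMap (c x).B (Localization.Away g)))) (Category.assoc _ _ _).symm
    have hjU : ∀ w : PrimeSpectrum (Localization.Away g), c'.b.base w ∈ U := fun w => hgU (by
      show g ∉ (PrimeSpectrum.comap (algebraMap (c x).B (Localization.Away g)) w).asIdeal
      exact fun hw => w.isPrime.ne_top (Ideal.eq_top_of_isUnit_mem _ hw (IsLocalization.Away.algebraMap_isUnit g)))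
    have hr : Set.range c'.b ⊆ Set.range U.ι := by
      rw [Scheme.Opens.range_ι]
      rintro _ ⟨w, rfl⟩
      exact hjU w
    let l : c'.N ⟶ Over.mk (U.ι ≫ f) := Over.homMk (IsOpenImmersion.lift U.ι c'.b hr) (by
      show IsOpenImmersion.lift U.ι c'.b hr ≫ U.ι ≫ f = c'.b ≫ f
      rw [IsOpenImmersion.lift_fac_assoc])
    let k' : c'.Nh ⟶ (c x).Nh := Over.homMk (Spec.map (CommRingCat.ofHom
        (IsLocalization.Away.lift (S := Localization.Away (c x).h) (c x).h
          (g := (algebraMap c'.B (Localization.Away c'.h)).comp (algebraMap (c x).B (Localization.Away g)))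
          (IsLocalization.Away.algebraMap_isUnit c'.h)))) (by
      show _ ≫ Spec.map (CommRingCat.ofHom (algebraMap (c x).B (Localization.Away (c x).h))) ≫ (c x).b ≫ f =
        Spec.map (CommRingCat.ofHom (algebraMap c'.B (Localization.Away c'.h))) ≫
          (Spec.map (CommRingCat.ofHom (algebraMap (c x).B (Localization.Away g))) ≫ (c x).b) ≫ f
      rw [← Category.assoc, ← Spec.map_comp, ← CommRingCat.ofHom_comp, IsLocalization.Away.lift_comp, CommRingCat.ofHom_comp,
        Spec.map_comp, Category.assoc, Category.assoc])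
    have hk : k' ≫ (c x).k = c'.k ≫ j := Over.OverMorphism.ext (by
      show Spec.map (CommRingCat.ofHom (IsLocalization.Away.lift (S := Localization.Away (c x).h) (c x).h
          (g := (algebraMap c'.B (Localization.Away c'.h)).comp (algebraMap (c x).B (Localization.Away g)))
          (IsLocalization.Away.algebraMap_isUnit c'.h))) ≫ Spec.map _ = Spec.map _ ≫ Spec.map _
      rw [← Spec.map_comp, ← CommRingCat.ofHom_comp, IsLocalization.Away.lift_comp, CommRingCat.ofHom_comp, Spec.map_comp])
    haveI : Mono U.ι := inferInstance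
    have hl : c'.k ≫ l = k' ≫ m x := by
      refine Over.OverMorphism.ext ((cancel_mono U.ι).1 ?_)
      have h1 : (k' ≫ m x ≫ incl f U).left = (c'.k ≫ j ≫ (c x).bm).left := by
        rw [hm, ← Category.assoc, hk, Category.assoc]
      show (c'.k.left ≫ l.left) ≫ U.ι = (k'.left ≫ (m x).left) ≫ U.ι
      rw [Category.assoc, Category.assoc]
      refine Eq.trans ?_ h1.symm
      show c'.k.left ≫ IsOpenImmersion.lift U.ι c'.b hr ≫ U.ι = _
      rw [IsOpenImmersion.lift_fac]
      rfl
    have heq : P.map j.op (σ x) = P.map l.op y := by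
      refine (c'.bijective hP).1 ?_
      rw [← map_comp_apply', ← map_comp_apply', ← hk, hl, map_comp_apply', map_comp_apply', hσ]
    obtain ⟨w, hw⟩ : z ∈ Set.range (PrimeSpectrum.comap (algebraMap (c x).B (Localization.Away g))) := by
      rw [PrimeSpectrum.localization_away_comap_range (Localization.Away g) g]
      exact hzg
    haveI : Etale j.left := by
      haveI : IsOpenImmersion (Spec.map (CommRingCat.ofHom (algebraMap (c x).B (Localization.Away g)))) :=
        IsOpenImmersion.of_isLocalization g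
      exact inferInstanceAs (Etale (Spec.map (CommRingCat.ofHom (algebraMap (c x).B (Localization.Away g)))))
    obtain ⟨a', ha', -⟩ := EtDescentLib.exists_lift j a hG w fun y₂ => by
      rw [hG.subsingleton y₂ y₁]
      exact hw.symm
    have hb : a' ≫ l = b := by
      refine Over.OverMorphism.ext ((cancel_mono U.ι).1 ?_)
      show (a'.left ≫ IsOpenImmersion.lift U.ι c'.b hr) ≫ U.ι = b.left ≫ U.ι
      rw [Category.assoc, IsOpenImmersion.lift_fac]
      show (a' ≫ j ≫ (c x).bm).left = (b ≫ incl f U).left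
      rw [← Category.assoc, ha', hab]
    rw [← ha', ← hb, map_comp_apply', map_comp_apply', heq]
  obtain ⟨s, hs⟩ := hP.exists_glue (T := Over.mk f) (fun x => (c x).N) (fun x => (c x).bm)
    (fun x => inferInstanceAs (Etale (c x).b)) (fun x => ⟨x, hxc x⟩) σ fun i j G a b hG hab => by
      -- compare on the intersection of the two charts
      let O : V.Opens := (c i).b.opensRange ⊓ (c j).b.opensRange
      let f₁ : (O : Scheme.{u}) ⟶ S := O.ι ≫ f
      haveI : Smooth f₁ := inferInstance
      have hri : Set.range O.ι ⊆ Set.range (c i).b := by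
        rw [Scheme.Opens.range_ι]
        exact fun z hz => hz.1
      have hrj : Set.range O.ι ⊆ Set.range (c j).b := by
        rw [Scheme.Opens.range_ι]
        exact fun z hz => hz.2
      let oi : Over.mk f₁ ⟶ (c i).N := Over.homMk (IsOpenImmersion.lift (c i).b O.ι hri) (by
        show _ ≫ (c i).b ≫ f = O.ι ≫ f
        rw [IsOpenImmersion.lift_fac_assoc])
      let oj : Over.mk f₁ ⟶ (c j).N := Over.homMk (IsOpenImmersion.lift (c j).b O.ι hrj) (by
        show _ ≫ (c j).b ≫ f = O.ι ≫ f
        rw [IsOpenImmersion.lift_fac_assoc])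
      let U₁ : (O : Scheme.{u}).Opens := O.ι ⁻¹ᵁ U
      have hd₁ : ∀ z : (O : Scheme.{u}), z ∈ closure ((U₁ : Set _) ∩ {w | f₁.base w = f₁.base z}) := fun z => by
        have h1 : z ∈ O.ι ⁻¹' closure ((U : Set V) ∩ {w : V | f.base w = f.base (O.ι z)}) := hd (O.ι z)
        rw [O.ι.isOpenEmbedding.isOpenMap.preimage_closure_eq_closure_preimage O.ι.continuous] at h1
        exact h1
      have hO : P.map oi.op (σ i) = P.map oj.op (σ j) := by
        refine injective_of_dense hP U₁ hd₁ (hP.ext fun H d hH => ?_)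
        have hr : Set.range (U₁.ι ≫ O.ι) ⊆ Set.range U.ι := by
          rw [Scheme.Opens.range_ι]
          rintro _ ⟨w, rfl⟩
          exact w.2
        let dU : H ⟶ Over.mk (U.ι ≫ f) := Over.homMk (d.left ≫ IsOpenImmersion.lift U.ι (U₁.ι ≫ O.ι) hr) (by
          show (d.left ≫ _) ≫ U.ι ≫ f = H.hom
          rw [Category.assoc, IsOpenImmersion.lift_fac_assoc, ← Over.w d]
          simp only [Category.assoc]
          rfl)
        have hdU : dU.left ≫ U.ι = d.left ≫ U₁.ι ≫ O.ι := by
          show (d.left ≫ _) ≫ U.ι = _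
          rw [Category.assoc, IsOpenImmersion.lift_fac]
        have ei : ((d ≫ incl f₁ U₁) ≫ oi) ≫ (c i).bm = dU ≫ incl f U := Over.OverMorphism.ext (by
          show ((d.left ≫ U₁.ι) ≫ IsOpenImmersion.lift (c i).b O.ι hri) ≫ (c i).b = dU.left ≫ U.ι
          rw [hdU, Category.assoc, IsOpenImmersion.lift_fac, Category.assoc])
        have ej : ((d ≫ incl f₁ U₁) ≫ oj) ≫ (c j).bm = dU ≫ incl f U := Over.OverMorphism.ext (by
          show ((d.left ≫ U₁.ι) ≫ IsOpenImmersion.lift (c j).b O.ι hrj) ≫ (c j).b = dU.left ≫ U.ι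
          rw [hdU, Category.assoc, IsOpenImmersion.lift_fac, Category.assoc])
        rw [← map_comp_apply', ← map_comp_apply', ← map_comp_apply', ← map_comp_apply']
        exact (hU i H _ dU hH ei).trans (hU j H _ dU hH ej).symm
      obtain ⟨y₁⟩ := hG.nonempty
      have hrG : Set.range (a.left ≫ (c i).b) ⊆ Set.range O.ι := by
        rw [Scheme.Opens.range_ι]
        rintro _ ⟨w, rfl⟩
        refine ⟨⟨a.left w, rfl⟩, ⟨b.left w, ?_⟩⟩
        show (b ≫ (c j).bm).left w = _
        rw [← hab]
        rfl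
      let o : G ⟶ Over.mk f₁ := Over.homMk (IsOpenImmersion.lift O.ι _ hrG) (by
        show _ ≫ O.ι ≫ f = G.hom
        rw [IsOpenImmersion.lift_fac_assoc, Category.assoc]
        exact Over.w a)
      have e1 : o ≫ oi = a := Over.OverMorphism.ext ((cancel_mono (c i).b).1 (by
        show (IsOpenImmersion.lift O.ι _ hrG ≫ IsOpenImmersion.lift (c i).b O.ι hri) ≫ (c i).b = _
        rw [Category.assoc, IsOpenImmersion.lift_fac, IsOpenImmersion.lift_fac]))
      have e2 : o ≫ oj = b := Over.OverMorphism.ext ((cancel_mono (c j).b).1 (by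
        show (IsOpenImmersion.lift O.ι _ hrG ≫ IsOpenImmersion.lift (c j).b O.ι hrj) ≫ (c j).b = _
        rw [Category.assoc, IsOpenImmersion.lift_fac, IsOpenImmersion.lift_fac]
        exact congrArg CommaMorphism.left hab))
      rw [← e1, ← e2, map_comp_apply', map_comp_apply', hO]
  refine ⟨s, hP.ext fun G b hG => ?_⟩
  obtain ⟨y₁⟩ := hG.nonempty
  let x : V := (b ≫ incl f U).left y₁
  obtain ⟨w, hw⟩ := hxc x
  haveI : Etale (c x).bm.left := inferInstanceAs (Etale (c x).b)
  obtain ⟨a, ha, -⟩ := EtDescentLib.exists_lift (c x).bm (b ≫ incl f U) hG w fun y₂ => by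
    rw [hG.subsingleton y₂ y₁]
    exact hw.symm
  rw [← map_comp_apply', ← ha, map_comp_apply', hs]
  exact hU x G a b hG ha

section Unit

open EtProperH0Lib

variable {X : Scheme.{u}}

/-- The unit for a fibrewise dense open of a smooth scheme is an isomorphism on inverse images from the base. -/
theorem isIso_unit_pull {U : Scheme.{u}} (f : X ⟶ S) [Smooth f] (j : U ⟶ X) [IsOpenImmersion j]
    (hd : ∀ x : X, x ∈ closure (Set.range j ∩ {y : X | f.base y = f.base x})) (F : EtCoh.Ab S) :
    IsIso ((adjS AddCommGrpCat.{u + 1} j).unit.app ((pullS AddCommGrpCat.{u + 1} f).obj F)) := by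
  let 𝒜 := AddCommGrpCat.{u + 1}
  let G := (pullS 𝒜 f).obj F
  let PS := ((pPull 𝒜 S).obj F).obj
  let PX := ((pPull 𝒜 X).obj G).obj
  haveI : ∀ W : (X.Etale)ᵒᵖ, IsIso (((adjS 𝒜 j).unit.app G).hom.app W) := fun W => by
    obtain ⟨W⟩ := W
    haveI : Etale W.hom := W.prop
    haveI : Smooth (W.hom ≫ f) := inferInstance
    let Uo : W.left.Opens := W.hom ⁻¹ᵁ j.opensRange
    have hd' : ∀ z : W.left, z ∈ closure ((Uo : Set W.left) ∩ {w | (W.hom ≫ f).base w = (W.hom ≫ f).base z}) :=
      fun z => by
        have h1 : z ∈ W.hom ⁻¹' closure (Set.range j ∩ {y : X | f.base y = f.base (W.hom z)}) := hd (W.hom z)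
        rw [W.hom.isOpenMap.preimage_closure_eq_closure_preimage W.hom.continuous] at h1
        exact h1
    have hb := bijective_of_dense (P := PS ⋙ forget 𝒜) (hasGerms_ab S F) (f := W.hom ≫ f) Uo hd'
    let c := (Over.mapPullbackAdj j).counit.app ((EtFppf.a X).obj W)
    haveI : IsIso (PX.map c.op) := by
      let ν : PS ≅ PS := Iso.refl _
      have hr : Set.range (pullback.fst W.hom j) = Set.range Uo.ι := by
        rw [Scheme.Opens.range_ι, Scheme.Pullback.range_fst]
        rfl
      let e : (Over.map f).obj ((Over.map j).obj ((Over.pullback j).obj ((EtFppf.a X).obj W))) ≅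
          Over.mk (Uo.ι ≫ W.hom ≫ f) := by
        refine Over.isoMk (IsOpenImmersion.isoOfRangeEq (pullback.fst W.hom j) Uo.ι hr) ?_
        show _ ≫ Uo.ι ≫ W.hom ≫ f = (pullback.snd W.hom j ≫ j) ≫ f
        rw [IsOpenImmersion.isoOfRangeEq_hom_fac_assoc, ← pullback.condition, Category.assoc]
      have he : e.hom ≫ incl (W.hom ≫ f) Uo = (Over.map f).map c := by
        refine Over.OverMorphism.ext ?_
        show (IsOpenImmersion.isoOfRangeEq (pullback.fst W.hom j) Uo.ι hr).hom ≫ Uo.ι = c.left
        rw [IsOpenImmersion.isoOfRangeEq_hom_fac]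
        simp [c]
        rfl
      haveI : IsIso (PS.map ((Over.map f).map c).op) := by
        rw [← he, op_comp, PS.map_comp]
        haveI : IsIso ((forget 𝒜).map (PS.map (incl (W.hom ≫ f) Uo).op)) := (isIso_iff_bijective _).2 hb
        haveI : IsIso (PS.map (incl (W.hom ≫ f) Uo).op) := isIso_of_reflects_iso _ (forget 𝒜)
        infer_instance
      let M := (sheafToPresheaf _ _).mapIso ((mIso 𝒜 f).app F)
      have hM : PS.map ((Over.map f).map c).op ≫ M.hom.app _ = M.hom.app _ ≫ PX.map c.op := M.hom.naturality c.op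
      haveI : IsIso (M.hom.app _ ≫ PX.map c.op) := hM ▸ inferInstance
      exact IsIso.of_isIso_comp_left (M.hom.app _) (PX.map c.op)
    haveI : IsIso (((pPull 𝒜 X).obj G).obj.map c.op) := ‹IsIso (PX.map c.op)›
    haveI : IsIso (((pAdj 𝒜 X).unit.app G).hom.app (op W)) := by
      haveI : IsIso ((forget 𝒜).map (((pAdj 𝒜 X).unit.app G).hom.app (op W))) :=
        (isIso_iff_bijective _).2 (unit_app_bijective G W)
      exact isIso_of_reflects_iso _ (forget 𝒜)
    haveI : IsIso ((gamma j G).hom.app (op ((EtCoh.bc j).obj W))) :=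
      inferInstanceAs (IsIso ((sheafToPresheaf _ _ ⋙ (evaluation _ _).obj (op ((EtCoh.bc j).obj W))).map (gamma j G)))
    haveI : IsIso (((adjS 𝒜 j).unit.app G).hom.app (op W) ≫ (gamma j G).hom.app (op ((EtCoh.bc j).obj W))) := by
      rw [gamma_app]
      infer_instance
    exact IsIso.of_isIso_comp_right _ ((gamma j G).hom.app (op ((EtCoh.bc j).obj W)))
  haveI : IsIso ((adjS 𝒜 j).unit.app G).hom := NatIso.isIso_of_isIso_app _
  haveI : IsIso ((sheafToPresheaf _ _).map ((adjS 𝒜 j).unit.app G)) := ‹IsIso ((adjS 𝒜 j).unit.app G).hom›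
  exact isIso_of_reflects_iso ((adjS 𝒜 j).unit.app G) (sheafToPresheaf _ _)

end Unit

end

end FibDenseLib
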