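import Groth.Agent.EtProperH0Lib.ShFibres
import Groth.Agent.WEtNormalLib.Local
import Groth.Agent.WEtNormalLib.Olivier
import Groth.Agent.NorLocLib.SmoothLocal
import Groth.Agent.S7127
import Groth.Agent.SchFinLib.Conn
import Mathlib.RingTheory.Smooth.StandardSmoothCotangent

/-! Inverting an element which is regular on all fibres of a smooth algebra does not disconnect the fibres of strict
henselizations. -/

set_option autoImplicit false
set_option linter.unusedSectionVars false
set_option linter.style.haveILetI false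
set_option backward.isDefEq.respectTransparency false
set_option backward.isDefEq.respectTransparency.types false
set_option maxHeartbeats 2000000
set_option synthInstance.maxHeartbeats 400000

universe u

open TensorProduct IsLocalRing

namespace FibDenseLib

/-- The element is regular on all fibres, for all extensions of the residue fields. -/
def UR (A B : Type u) [CommRing A] [CommRing B] [Algebra A B] (h : B) : Prop :=
  ∀ (K : Type u) [Field K] [Algebra A K], IsSMulRegular (K ⊗[A] B) ((1 : K) ⊗ₜ[A] h)

theorem regular_map_of_flat {R S : Type u} [CommRing R] [CommRing S] (f : R →+* S) (hf : f.Flat) {r : R}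
    (hr : IsSMulRegular R r) : IsSMulRegular S (f r) := by
  algebraize [f]
  exact IsSMulRegular.of_flat hr

theorem UR.of_flat {A B C : Type u} [CommRing A] [CommRing B] [CommRing C] [Algebra A B] [Algebra A C]
    [Algebra B C] [IsScalarTower A B C] [Module.Flat B C] {h : B} (hh : UR A B h) :
    UR A C (algebraMap B C h) := fun K _ _ => by
  let Φ := Algebra.TensorProduct.map (AlgHom.id K K) (IsScalarTower.toAlgHom A B C)
  have h1 : Φ ((1 : K) ⊗ₜ[A] h) = (1 : K) ⊗ₜ[A] algebraMap B C h := rfl
  rw [← h1]
  exact regular_map_of_flat Φ.toRingHom (RingHom.Flat.tensorProductMap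
    (RingHom.Flat.of_bijective Function.bijective_id) (RingHom.flat_algebraMap_iff.2 ‹_›)) (hh K)

theorem UR.of_residueField {A B : Type u} [CommRing A] [CommRing B] [Algebra A B] {h : B}
    (hh : ∀ (p : Ideal A) [p.IsPrime], IsSMulRegular (p.ResidueField ⊗[A] B) ((1 : p.ResidueField) ⊗ₜ[A] h)) :
    UR A B h := fun K _ _ => by
  let p : Ideal A := RingHom.ker (algebraMap A K)
  haveI : p.IsPrime := RingHom.ker_isPrime _
  let ι : p.ResidueField →ₐ[A] K := Ideal.ResidueField.liftₐ p (Algebra.ofId A K) le_rfl fun a ha => by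
    show IsUnit (algebraMap A K a)
    exact (Ne.isUnit fun h0 => ha h0)
  let Φ := Algebra.TensorProduct.map ι (AlgHom.id A B)
  have hι : ι.toRingHom.Flat := by
    algebraize [ι.toRingHom]
    exact inferInstanceAs (Module.Flat p.ResidueField K)
  have h1 : Φ ((1 : p.ResidueField) ⊗ₜ[A] h) = (1 : K) ⊗ₜ[A] h := by simp [Φ]
  rw [← h1]
  exact regular_map_of_flat Φ.toRingHom (RingHom.Flat.tensorProductMap hι
    (RingHom.Flat.of_bijective Function.bijective_id)) (hh p)

/-- A connected ring with local domains stays connected after inverting a regular element. -/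
theorem connectedSpace_away (C : Type u) [CommRing C] (h : C) (hC : ConnectedSpace (PrimeSpectrum C))
    (hdom : ∀ (P : Ideal C) [P.IsPrime], IsDomain (Localization.AtPrime P)) (hh : IsSMulRegular C h)
    (Ch : Type u) [CommRing Ch] [Algebra C Ch] [IsLocalization.Away h Ch] :
    ConnectedSpace (PrimeSpectrum Ch) := by
  obtain ⟨hnt, hid⟩ := Groth.Agent.SchFinLib.connectedSpace_iff_idempotent.1 hC
  have hreg : ∀ (n : ℕ) (z : C), h ^ n * z = 0 → z = 0 := fun n z hz =>
    (hh.pow n) (show h ^ n • z = h ^ n • 0 by rw [smul_eq_mul, smul_zero, hz])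
  refine Groth.Agent.SchFinLib.connectedSpace_iff_idempotent.2 ⟨?_, fun e he => ?_⟩
  · refine ⟨⟨(1 : Ch), 0, fun h10 => ?_⟩⟩
    obtain ⟨⟨c, hc⟩, hc0⟩ := (IsLocalization.eq_iff_exists (Submonoid.powers h) Ch).1
      (show algebraMap C Ch 1 = algebraMap C Ch 0 by rw [map_one, map_zero, h10])
    obtain ⟨n, rfl⟩ := (Submonoid.mem_powers_iff _ _).1 hc
    exact one_ne_zero (hreg n 1 (by simpa using hc0))
  · obtain ⟨a, ⟨s, hs⟩, rfl⟩ := IsLocalization.exists_mk'_eq (Submonoid.powers h) e
    obtain ⟨n, rfl⟩ := (Submonoid.mem_powers_iff _ _).1 hs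
    have ha : a * (a - h ^ n) = 0 := by
      have h1 : IsLocalization.mk' Ch a ⟨h ^ n, hs⟩ * IsLocalization.mk' Ch a ⟨h ^ n, hs⟩ =
          IsLocalization.mk' Ch a ⟨h ^ n, hs⟩ := he
      rw [← IsLocalization.mk'_mul, IsLocalization.mk'_eq_iff_eq] at h1
      obtain ⟨⟨c, hc⟩, hc0⟩ := (IsLocalization.eq_iff_exists (Submonoid.powers h) Ch).1 h1
      obtain ⟨m, rfl⟩ := (Submonoid.mem_powers_iff _ _).1 hc
      refine hreg (m + n) _ ?_
      simp only [Submonoid.coe_mul] at hc0
      calc h ^ (m + n) * (a * (a - h ^ n)) = h ^ m * (h ^ n * (a * a)) - h ^ m * (h ^ n * h ^ n * a) := by ring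
        _ = 0 := by rw [hc0, sub_self]
    let J : Ideal C := LinearMap.ker (LinearMap.toSpanSingleton C C a) ⊔
      LinearMap.ker (LinearMap.toSpanSingleton C C (a - h ^ n))
    have hJ : J = ⊤ := by
      by_contra hne
      obtain ⟨P, hP, hle⟩ := J.exists_le_maximal hne
      haveI := hdom P
      have h0 : algebraMap C (Localization.AtPrime P) a * algebraMap C (Localization.AtPrime P) (a - h ^ n) = 0 := by
        rw [← map_mul, ha, map_zero]
      rcases mul_eq_zero.1 h0 with hz | hz <;>
        obtain ⟨⟨c, hc⟩, hc0⟩ := (IsLocalization.map_eq_zero_iff P.primeCompl _ _).1 hz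
      · exact hc (hle (Ideal.mem_sup_left (show c • a = 0 from hc0)))
      · exact hc (hle (Ideal.mem_sup_right (show c • (a - h ^ n) = 0 from hc0)))
    obtain ⟨v, hv, w, hw, hvw⟩ := Submodule.mem_sup.1 (show (1 : C) ∈ J from hJ ▸ Submodule.mem_top)
    have hv' : v * a = 0 := hv
    have hw' : w * (a - h ^ n) = 0 := hw
    have hvw0 : v * w = 0 := hreg n _ (by linear_combination w * hv' - v * hw')
    have hvid : IsIdempotentElem v := by
      show v * v = v
      linear_combination v * hvw - hvw0
    rcases hid v hvid with rfl | rfl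
    · have hw1 : w = 1 := by simpa using hvw
      subst hw1
      have : a = h ^ n := by linear_combination hw'
      subst this
      exact Or.inr (IsLocalization.mk'_self Ch hs)
    · have : a = 0 := by simpa using hv'
      subst this
      exact Or.inl (IsLocalization.mk'_zero _)

/-- Lifting along étale algebras into strictly henselian rings. -/
theorem exists_etale_section {B C T L : Type u} [CommRing B] [CommRing C] [Algebra B C] [Algebra.Etale B C]
    [CommRing T] [HenselianLocalRing T] [IsSepClosed (ResidueField T)] [Algebra B T] [Field L] [Algebra T L]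
    (hker : RingHom.ker (algebraMap T L) = maximalIdeal T)
    (χ : C →+* L) (hχ : χ.comp (algebraMap B C) = (algebraMap T L).comp (algebraMap B T)) :
    ∃ l : C →ₐ[B] T, (algebraMap T L).comp l.toRingHom = χ := by
  letI : Algebra B L := ((algebraMap T L).comp (algebraMap B T)).toAlgebra
  haveI : IsScalarTower B T L := IsScalarTower.of_algebraMap_eq fun _ => rfl
  let χ' : C →ₐ[B] L := AlgHom.mk χ fun b => RingHom.congr_fun hχ b
  let χT : T ⊗[B] C →ₐ[T] L := Algebra.TensorProduct.lift (Algebra.ofId T _) χ' fun _ _ => Commute.all _ _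
  let 𝔫 : Ideal (T ⊗[B] C) := RingHom.ker χT
  haveI : 𝔫.IsPrime := RingHom.ker_isPrime _
  haveI : Algebra.WeaklyEtale (T ⊗[B] C) (Localization.AtPrime 𝔫) :=
    Groth.Agent.WEtNormalLib.weaklyEtale_localization _ _ 𝔫.primeCompl
  haveI : Algebra.WeaklyEtale T (Localization.AtPrime 𝔫) := Algebra.WeaklyEtale.trans T (T ⊗[B] C) _
  haveI : IsLocalHom (algebraMap T (Localization.AtPrime 𝔫)) := ⟨fun t ht => by
    rw [IsScalarTower.algebraMap_apply T (T ⊗[B] C), IsLocalization.AtPrime.isUnit_to_map_iff _ 𝔫] at ht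
    by_contra hn
    refine ht ?_
    show χT (algebraMap T (T ⊗[B] C) t) = 0
    rw [AlgHom.commutes, ← RingHom.mem_ker, hker]
    exact (mem_maximalIdeal t).2 hn⟩
  let e : T ≃ₐ[T] Localization.AtPrime 𝔫 := AlgEquiv.ofBijective (Algebra.ofId T _)
    (Groth.Agent.WEtNormalLib.bijective_of_strictlyHenselian T (Localization.AtPrime 𝔫))
  let l0 : T ⊗[B] C →ₐ[T] T := e.symm.toAlgHom.comp (IsScalarTower.toAlgHom T (T ⊗[B] C) _)
  refine ⟨(l0.restrictScalars B).comp Algebra.TensorProduct.includeRight, RingHom.ext fun c => ?_⟩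
  let z : T ⊗[B] C := (1 : T) ⊗ₜ[B] c
  show algebraMap T L (l0 z) = χ c
  let lc : Localization.AtPrime 𝔫 →+* L := IsLocalization.lift (M := 𝔫.primeCompl)
    (g := χT.toRingHom) fun d => Ne.isUnit d.2
  have h1 : lc.comp (algebraMap T (Localization.AtPrime 𝔫)) = algebraMap T L := RingHom.ext fun t => by
    show lc (algebraMap T _ t) = _
    rw [IsScalarTower.algebraMap_apply T (T ⊗[B] C), IsLocalization.lift_eq]
    exact χT.commutes t
  rw [← RingHom.congr_fun h1 (l0 z)]
  show lc (algebraMap T _ (e.symm (algebraMap _ _ z))) = χ c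
  rw [show algebraMap T (Localization.AtPrime 𝔫) (e.symm (algebraMap _ _ z)) = algebraMap _ _ z from
    e.apply_symm_apply _, IsLocalization.lift_eq]
  show χT ((1 : T) ⊗ₜ c) = χ c
  simp [χT, χ']

/-- A weakly étale algebra over a normal ring has domains as local rings. -/
theorem isDomain_atPrime_of_weaklyEtale (D C : Type u) [CommRing D] [CommRing C] [Algebra D C]
    [Algebra.WeaklyEtale D C] (hD : EGA4.IsNormalRing D) (P : Ideal C) [P.IsPrime] :
    IsDomain (Localization.AtPrime P) := by
  let P' := P.comap (algebraMap D C)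
  haveI : P.LiesOver P' := ⟨rfl⟩
  letI : Algebra (Localization.AtPrime P') (Localization.AtPrime P) :=
    (Localization.localRingHom P' P (algebraMap D C) rfl).toAlgebra
  haveI : IsScalarTower D (Localization.AtPrime P') (Localization.AtPrime P) :=
    IsScalarTower.of_algebraMap_eq fun d => by
      rw [IsScalarTower.algebraMap_apply D C (Localization.AtPrime P)]
      exact (Localization.localRingHom_to_map _ _ _ rfl d).symm
  haveI : Algebra.WeaklyEtale D (Localization.AtPrime P') :=
    Groth.Agent.WEtNormalLib.weaklyEtale_localization _ _ P'.primeCompl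
  haveI : Algebra.WeaklyEtale C (Localization.AtPrime P) :=
    Groth.Agent.WEtNormalLib.weaklyEtale_localization _ _ P.primeCompl
  haveI : Algebra.WeaklyEtale D (Localization.AtPrime P) := Algebra.WeaklyEtale.trans D C _
  haveI : Algebra.WeaklyEtale (Localization.AtPrime P') (Localization.AtPrime P) :=
    Groth.Agent.S7127.result D (Localization.AtPrime P') (Localization.AtPrime P)
  obtain ⟨hd, hn⟩ := hD P'
  exact (Groth.Agent.WEtNormalLib.normalDomain_of_weaklyEtale (Localization.AtPrime P') _).1

attribute [local instance] Algebra.TensorProduct.rightAlgebra in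
/-- Connectedness of the fibres after inverting a fibrewise regular element. -/
theorem connected_fibre_away {A B R T : Type u} [CommRing A] [CommRing B] [Algebra A B] [Algebra.Smooth A B]
    [CommRing R] [Algebra A R] [Algebra.WeaklyEtale A R] [CommRing T] [Algebra A T] [Algebra B T] [Algebra R T]
    [IsScalarTower A B T] [IsScalarTower A R T] [Algebra.WeaklyEtale B T] (h : B) (hh : UR A B h)
    (hconn : ∀ (K : Type u) [Field K] [IsAlgClosed K] [Algebra R K], ConnectedSpace (PrimeSpectrum (K ⊗[R] T)))
    (Th : Type u) [CommRing Th] [Algebra T Th] [Algebra R Th] [IsScalarTower R T Th]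
    [IsLocalization.Away (algebraMap B T h) Th] (K : Type u) [Field K] [IsAlgClosed K] [Algebra R K] :
    ConnectedSpace (PrimeSpectrum (K ⊗[R] Th)) := by
  letI : Algebra A K := ((algebraMap R K).comp (algebraMap A R)).toAlgebra
  haveI : IsScalarTower A R K := IsScalarTower.of_algebraMap_eq fun _ => rfl
  let B₁ : Type u := R ⊗[A] B
  let θ : B₁ →ₐ[R] T := Algebra.TensorProduct.lift (Algebra.ofId R T) (IsScalarTower.toAlgHom A B T)
    fun _ _ => Commute.all _ _
  letI : Algebra B₁ T := θ.toRingHom.toAlgebra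
  haveI : IsScalarTower R B₁ T := IsScalarTower.of_algebraMap_eq fun r => (θ.commutes r).symm
  letI : Algebra B B₁ := (Algebra.TensorProduct.includeRight : B →ₐ[A] B₁).toRingHom.toAlgebra
  haveI : IsScalarTower B B₁ T := IsScalarTower.of_algebraMap_eq fun b => by
    show algebraMap B T b = θ ((1 : R) ⊗ₜ[A] b)
    simp only [θ]
    erw [Algebra.TensorProduct.lift_tmul]
    rw [map_one, one_mul]
    rfl
  haveI : Algebra.WeaklyEtale B B₁ := by
    let e : B ⊗[A] R ≃ₐ[A] B₁ := Algebra.TensorProduct.comm A B R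
    letI : Algebra (B ⊗[A] R) B₁ := e.toAlgHom.toRingHom.toAlgebra
    haveI : IsScalarTower B (B ⊗[A] R) B₁ := IsScalarTower.of_algebraMap_eq fun b => rfl
    haveI : Algebra.Etale (B ⊗[A] R) B₁ :=
      Algebra.Etale.of_equiv (AlgEquiv.ofBijective (Algebra.ofId (B ⊗[A] R) B₁) e.bijective)
    exact Algebra.WeaklyEtale.trans B (B ⊗[A] R) B₁
  haveI : Algebra.WeaklyEtale B₁ T := Groth.Agent.S7127.result B B₁ T
  -- the base change to `K`
  let D : Type u := B₁ ⊗[R] K
  let C : Type u := T ⊗[R] K
  letI : Algebra D C := (Algebra.TensorProduct.map (IsScalarTower.toAlgHom R B₁ T) (AlgHom.id R K)).toRingHom.toAlgebra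
  haveI : IsScalarTower B₁ D C := IsScalarTower.of_algebraMap_eq (R := B₁) (S := D) (A := C) fun b => by
    show _ = Algebra.TensorProduct.map (IsScalarTower.toAlgHom R B₁ T) (AlgHom.id R K) (b ⊗ₜ[R] (1 : K))
    rw [Algebra.TensorProduct.map_tmul]
    rfl
  haveI hpo : Algebra.IsPushout B₁ T D C := Algebra.IsPushout.tensorProduct_tensorProduct R K B₁ T
    (RingHom.ext fun k => by
      show Algebra.TensorProduct.map (IsScalarTower.toAlgHom R B₁ T) (AlgHom.id R K) ((1 : B₁) ⊗ₜ[R] k) = (1 : T) ⊗ₜ k
      simp)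
  haveI : Algebra.IsPushout B₁ D T C := hpo.symm
  haveI : Algebra.WeaklyEtale D C := by
    let e : D ⊗[B₁] T ≃ₐ[D] C := Algebra.IsPushout.equiv B₁ D T C
    letI : Algebra (D ⊗[B₁] T) C := e.toAlgHom.toRingHom.toAlgebra
    haveI : IsScalarTower D (D ⊗[B₁] T) C :=
      IsScalarTower.of_algebraMap_eq (R := D) (S := D ⊗[B₁] T) (A := C) fun d => (e.commutes d).symm
    haveI : Algebra.Etale (D ⊗[B₁] T) C :=
      RingHom.etale_algebraMap.1 (RingHom.Etale.of_bijective e.bijective)
    exact Algebra.WeaklyEtale.trans D (D ⊗[B₁] T) C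
  have hD : EGA4.IsNormalRing D :=
    GeomRedFibLib.isNormalRing_of_ringEquiv _ _ (Algebra.TensorProduct.comm R K B₁).toRingEquiv
      (NorLocLib.isNormalRing_of_smooth K (K ⊗[R] B₁) (GeomRedFibLib.isNormalRing_field K))
  let hC : C := algebraMap B T h ⊗ₜ[R] (1 : K)
  have hreg : IsSMulRegular C hC := by
    let hD' : D := ((1 : R) ⊗ₜ[A] h) ⊗ₜ[R] (1 : K)
    have h1 : algebraMap D C hD' = hC := by
      show Algebra.TensorProduct.map (IsScalarTower.toAlgHom R B₁ T) (AlgHom.id R K) hD' = hC
      simp only [hD', hC]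
      erw [Algebra.TensorProduct.map_tmul]
      show θ ((1 : R) ⊗ₜ[A] h) ⊗ₜ[R] (1 : K) = _
      simp only [θ]
      erw [Algebra.TensorProduct.lift_tmul]
      rw [map_one, one_mul]
      rfl
    rw [← h1]
    refine IsSMulRegular.of_flat ?_
    let e : K ⊗[A] B ≃+* D := (Algebra.TensorProduct.cancelBaseChange A R K K B).symm.toRingEquiv.trans
      (Algebra.TensorProduct.comm R K B₁).toRingEquiv
    have h2 : e ((1 : K) ⊗ₜ[A] h) = hD' := by
      simp only [e, hD', RingEquiv.trans_apply]
      rfl
    intro x y hxy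
    have h3 : hD' * x = hD' * y := hxy
    rw [← h2, ← e.apply_symm_apply x, ← e.apply_symm_apply y, ← map_mul, ← map_mul] at h3
    exact e.symm.injective ((hh K) (e.injective h3))
  have hCc : ConnectedSpace (PrimeSpectrum C) := by
    haveI := hconn K
    let e := PrimeSpectrum.homeomorphOfRingEquiv (Algebra.TensorProduct.comm R K T).toRingEquiv
    exact e.surjective.connectedSpace e.continuous
  let Ch : Type u := Th ⊗[R] K
  letI : Algebra C Ch := (Algebra.TensorProduct.map (IsScalarTower.toAlgHom R T Th) (AlgHom.id R K)).toRingHom.toAlgebra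
  haveI : IsScalarTower T C Ch := IsScalarTower.of_algebraMap_eq fun b => rfl
  haveI hpo' : Algebra.IsPushout T Th C Ch := Algebra.IsPushout.tensorProduct_tensorProduct R K T Th
    (RingHom.ext fun k => by
      show Algebra.TensorProduct.map (IsScalarTower.toAlgHom R T Th) (AlgHom.id R K) ((1 : T) ⊗ₜ[R] k) = (1 : Th) ⊗ₜ k
      simp)
  haveI : IsLocalization (Algebra.algebraMapSubmonoid C (Submonoid.powers (algebraMap B T h))) Ch :=
    (Algebra.isLocalization_iff_isPushout (Submonoid.powers (algebraMap B T h)) Th).2 hpo'.symm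
  haveI : IsLocalization.Away hC Ch := by
    have h1 : Algebra.algebraMapSubmonoid C (Submonoid.powers (algebraMap B T h)) = Submonoid.powers hC := by
      rw [Algebra.algebraMapSubmonoid, Submonoid.map_powers]
      rfl
    rw [IsLocalization.Away, ← h1]
    exact inferInstance
  haveI := connectedSpace_away C hC hCc (fun P _ => isDomain_atPrime_of_weaklyEtale D C hD P) hreg Ch
  let e := PrimeSpectrum.homeomorphOfRingEquiv (Algebra.TensorProduct.comm R Th K).toRingEquiv
  exact e.surjective.connectedSpace e.continuous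

end FibDenseLib
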