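import Groth.Agent.FibDenseLib.Alg
import Groth.Agent.EtProperH0Lib.Connected
import Groth.Agent.EtProperH0Lib.SepFibres
import Groth.Agent.AbSchLib.Flat
import Groth.Agent.LocAcycBCLib.Alg
import Groth.Agent.S0537

/-! Sections of sheaves with étale germs over smooth algebras do not change when a fibrewise regular element is
inverted. -/

set_option autoImplicit false
set_option linter.unusedSectionVars false
set_option linter.style.haveILetI false
set_option backward.isDefEq.respectTransparency false
set_option backward.isDefEq.respectTransparency.types false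
set_option maxHeartbeats 2000000
set_option synthInstance.maxHeartbeats 400000

universe u

open CategoryTheory CategoryTheory.Limits AlgebraicGeometry Opposite TensorProduct IsLocalRing EtDescentLib

namespace FibDenseLib

noncomputable section

variable {A : Type u} [CommRing A]

variable (A) in
/-- The spectrum of an algebra over the spectrum of the base. -/
abbrev ov (C : Type u) [CommRing C] [Algebra A C] : Over (Spec (CommRingCat.of A)) :=
  Over.mk (Spec.map (CommRingCat.ofHom (algebraMap A C)))

/-- The morphism of an algebra map. -/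
def ovm {C C' : Type u} [CommRing C] [Algebra A C] [CommRing C'] [Algebra A C'] (l : C →ₐ[A] C') : ov A C' ⟶ ov A C :=
  Over.homMk (Spec.map (CommRingCat.ofHom l.toRingHom)) (by
    show Spec.map (CommRingCat.ofHom l.toRingHom) ≫ Spec.map (CommRingCat.ofHom (algebraMap A C)) = _
    rw [← Spec.map_comp, ← CommRingCat.ofHom_comp]
    exact congrArg (fun k => Spec.map (CommRingCat.ofHom k)) l.comp_algebraMap)

theorem ovm_comp {C C' C'' : Type u} [CommRing C] [Algebra A C] [CommRing C'] [Algebra A C'] [CommRing C''] [Algebra A C'']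
    (l : C →ₐ[A] C') (l' : C' →ₐ[A] C'') : ovm l' ≫ ovm l = ovm (l'.comp l) :=
  Over.OverMorphism.ext ((Spec.map_comp _ _).symm.trans rfl)

theorem exists_algHom {C C' : Type u} [CommRing C] [Algebra A C] [CommRing C'] [Algebra A C'] (m : ov A C' ⟶ ov A C) :
    ∃ l : C →ₐ[A] C', ovm l = m := by
  obtain ⟨φ, hφ⟩ := Spec.map_surjective m.left
  have h1 : CommRingCat.ofHom (algebraMap A C) ≫ φ = CommRingCat.ofHom (algebraMap A C') := by
    refine Spec.map_injective ?_
    rw [Spec.map_comp, hφ]
    exact Over.w m
  refine ⟨AlgHom.mk φ.hom fun a => congrArg (fun k : CommRingCat.of A ⟶ CommRingCat.of C' => k.hom a) h1,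
    Over.OverMorphism.ext ?_⟩
  exact hφ

theorem exists_geo_iso {G : Over (Spec (CommRingCat.of A))} (hG : IsGeo G.left) :
    ∃ (L : Type u) (_ : Field L) (_ : IsAlgClosed L) (_ : Algebra A L), Nonempty (ov A L ≅ G) := by
  obtain ⟨L, _, _, ⟨e⟩⟩ := hG
  obtain ⟨φ, hφ⟩ := Spec.map_surjective (e.inv ≫ G.hom)
  letI : Algebra A L := φ.hom.toAlgebra
  exact ⟨L, inferInstance, inferInstance, φ.hom.toAlgebra, ⟨Over.isoMk e.symm hφ.symm⟩⟩

theorem isGeo_ov (L : Type u) [Field L] [IsAlgClosed L] [Algebra A L] : IsGeo (ov A L).left :=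
  ⟨L, inferInstance, inferInstance, ⟨Iso.refl _⟩⟩

/-- An étale neighbourhood is refined by an étale algebra. -/
theorem exists_etale_alg {B : Type u} [CommRing B] [Algebra A B] {W G : Over (Spec (CommRingCat.of A))}
    (h : W ⟶ ov A B) [Etale h.left] (b : G ⟶ W) (hG : IsGeo G.left) :
    ∃ (C : Type u) (_ : CommRing C) (_ : Algebra A C) (_ : Algebra B C) (_ : IsScalarTower A B C)
      (_ : Algebra.Etale B C) (m : ov A C ⟶ W) (b' : G ⟶ ov A C), b' ≫ m = b ∧
      m ≫ h = ovm (IsScalarTower.toAlgHom A B C) := by
  obtain ⟨y₀⟩ := hG.nonempty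
  obtain ⟨V, hV, hyV, -⟩ := exists_isAffineOpen_mem_and_subset (x := b.left y₀) (U := (⊤ : W.left.Opens)) trivial
  have hk := (Spec.map_surjective (hV.fromSpec ≫ h.left))
  obtain ⟨φ, hφ⟩ := hk
  letI : Algebra B Γ(W.left, V) := φ.hom.toAlgebra
  letI : Algebra A Γ(W.left, V) := (φ.hom.comp (algebraMap A B)).toAlgebra
  haveI : IsScalarTower A B Γ(W.left, V) := IsScalarTower.of_algebraMap_eq fun _ => rfl
  haveI : Algebra.Etale B Γ(W.left, V) := by
    have h1 : Etale (Spec.map φ) := by
      rw [hφ]
      exact inferInstance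
    exact RingHom.etale_algebraMap.1 ((HasRingHomProperty.Spec_iff (P := @Etale)).1 h1)
  let m : ov A Γ(W.left, V) ⟶ W := Over.homMk hV.fromSpec (by
    show hV.fromSpec ≫ W.hom = Spec.map (CommRingCat.ofHom (φ.hom.comp (algebraMap A B)))
    rw [CommRingCat.ofHom_comp, Spec.map_comp, ← Over.w h, ← Category.assoc, ← hφ]
    rfl)
  haveI : IsOpenImmersion hV.fromSpec := inferInstance
  have hr : Set.range b.left ⊆ Set.range hV.fromSpec := by
    rintro _ ⟨y, rfl⟩
    rw [hV.range_fromSpec, hG.subsingleton y y₀]
    exact hyV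
  refine ⟨Γ(W.left, V), inferInstance, inferInstance, inferInstance, inferInstance, inferInstance, m,
    Over.homMk (IsOpenImmersion.lift hV.fromSpec b.left hr) ?_, Over.OverMorphism.ext (IsOpenImmersion.lift_fac _ _ _),
    Over.OverMorphism.ext hφ.symm⟩
  rw [← Over.w b, ← Over.w m]
  exact IsOpenImmersion.lift_fac_assoc _ _ _ _

variable {P : (Over (Spec (CommRingCat.of A)))ᵒᵖ ⥤ Type (u + 1)}

/-- Restriction of a section along an algebra map. -/
def rs {C C' : Type u} [CommRing C] [Algebra A C] [CommRing C'] [Algebra A C'] (l : C →ₐ[A] C')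
    (x : P.obj (op (ov A C))) : P.obj (op (ov A C')) :=
  P.map (ovm l).op x

theorem rs_rs {C C' C'' : Type u} [CommRing C] [Algebra A C] [CommRing C'] [Algebra A C'] [CommRing C''] [Algebra A C'']
    (l : C →ₐ[A] C') (l' : C' →ₐ[A] C'') (x : P.obj (op (ov A C))) : rs l' (rs l x) = rs (l'.comp l) x := by
  rw [rs, rs, rs, ← map_comp_apply', ovm_comp]

/-- The map of localisations away from an element. -/
def awayMap {C C' : Type u} [CommRing C] [Algebra A C] [CommRing C'] [Algebra A C'] (l : C →ₐ[A] C') (h : C) :
    Localization.Away h →ₐ[A] Localization.Away (l h) :=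
  IsLocalization.liftAlgHom (M := Submonoid.powers h) (f := (IsScalarTower.toAlgHom A C' (Localization.Away (l h))).comp l)
    (fun y => by
      obtain ⟨_, n, rfl⟩ := y
      show IsUnit (algebraMap C' (Localization.Away (l h)) (l (h ^ n)))
      rw [map_pow, map_pow]
      exact (IsLocalization.Away.algebraMap_isUnit (l h)).pow n)

theorem awayMap_comp {C C' : Type u} [CommRing C] [Algebra A C] [CommRing C'] [Algebra A C'] (l : C →ₐ[A] C') (h : C) :
    (awayMap l h).comp (IsScalarTower.toAlgHom A C (Localization.Away h)) =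
      (IsScalarTower.toAlgHom A C' (Localization.Away (l h))).comp l := by
  refine AlgHom.ext fun c => ?_
  show awayMap l h (algebraMap C _ c) = _
  exact IsLocalization.lift_eq _ c

theorem rs_away {C C' : Type u} [CommRing C] [Algebra A C] [CommRing C'] [Algebra A C'] (l : C →ₐ[A] C') (h : C)
    (x : P.obj (op (ov A C))) :
    rs (awayMap l h) (rs (IsScalarTower.toAlgHom A C (Localization.Away h)) x) =
      rs (IsScalarTower.toAlgHom A C' (Localization.Away (l h))) (rs l x) := by
  rw [rs_rs, rs_rs, awayMap_comp]

theorem rs_injective_of_local (hP : HasGerms P) {T : Type u} [CommRing T] [IsLocalRing T] [Algebra A T]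
    (L : Type u) [Field L] [IsAlgClosed L] [Algebra A L] [Algebra T L] [IsScalarTower A T L]
    (hker : RingHom.ker (algebraMap T L) = maximalIdeal T) :
    Function.Injective (rs (P := P) (IsScalarTower.toAlgHom A T L)) := by
  intro s t hst
  let y₀ : PrimeSpectrum L := closedPoint L
  have hmem : (ovm (IsScalarTower.toAlgHom A T L)).left.base y₀ ∈ eqLocus (ov A T) s t :=
    hP.mem_eqLocus _ (isGeo_ov L) hst y₀
  have hcl : (ovm (IsScalarTower.toAlgHom A T L)).left.base y₀ = (closedPoint T : PrimeSpectrum T) := by
    refine PrimeSpectrum.ext ?_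
    show (closedPoint L).asIdeal.comap (algebraMap T L) = maximalIdeal T
    rw [show (closedPoint L).asIdeal = ⊥ from maximalIdeal_eq_bot]
    exact hker
  rw [hcl] at hmem
  refine hP.ext fun G a hG => ?_
  obtain ⟨y⟩ := hG.nonempty
  refine eq_of_mem_eqLocus ((IsLocalRing.specializes_closedPoint (a.left y)).mem_open (isOpen_eqLocus _ _ _) hmem) a hG
    fun y' => by rw [hG.subsingleton y' y]

/-- Sections do not change along flat algebras with connected geometric fibres. -/
theorem bijective_rs_of_conn (hP : HasGerms P) {R T : Type u} [CommRing R] [Algebra A R] [CommRing T] [Algebra A T]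
    [Algebra R T] [IsScalarTower A R T] [Module.Flat R T]
    (hconn : ∀ (K : Type u) [Field K] [IsAlgClosed K] [Algebra R K], ConnectedSpace (PrimeSpectrum (K ⊗[R] T))) :
    Function.Bijective (rs (P := P) (IsScalarTower.toAlgHom A R T)) := by
  let c := Spec.map (CommRingCat.ofHom (algebraMap R T))
  let p := (ov A R).hom
  have hc : ∀ (Ω : Type u) [Field Ω] [IsAlgClosed Ω] (η : Spec (CommRingCat.of Ω) ⟶ Spec (CommRingCat.of R)),
      ConnectedSpace ↥(pullback c η) := fun Ω _ _ η => by
    obtain ⟨φ, rfl⟩ := Spec.map_surjective η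
    algebraize [φ.hom]
    have h1 := hconn Ω
    haveI : ConnectedSpace (PrimeSpectrum (T ⊗[R] Ω)) :=
      let e := PrimeSpectrum.homeomorphOfRingEquiv (Algebra.TensorProduct.comm R Ω T).toRingEquiv
      e.surjective.connectedSpace e.continuous
    exact (pullbackSpecIso R T Ω).hom.homeomorph.connectedSpace_iff.mpr ‹ConnectedSpace (PrimeSpectrum (T ⊗[R] Ω))›
  have hb := EtProperH0Lib.bijective_map_of_restrict p c ((EtProperH0Lib.hasGerms_restrict hP p).bijective_of_connected c
    (fun S' g => EtProperH0Lib.quotientMap_of_flat (algebraMap R T) (RingHom.flat_algebraMap_iff.2 ‹_›)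
      (EtProperH0Lib.surjective_of_conn c hc) S' g) hc)
  let e : ov A T ≅ Over.mk (c ≫ p) := Over.isoMk (Iso.refl _) (by
    show 𝟙 _ ≫ Spec.map (CommRingCat.ofHom (algebraMap R T)) ≫ Spec.map (CommRingCat.ofHom (algebraMap A R)) = _
    rw [Category.id_comp, ← Spec.map_comp, ← CommRingCat.ofHom_comp, ← IsScalarTower.algebraMap_eq]
    rfl)
  exact EtProperH0Lib.bijective_map_of_iso e _ (Over.OverMorphism.ext (Category.id_comp _)) hb

/-- The comparison at a strictly local ring. -/
theorem exists_local (hP : HasGerms P) {C : Type u} [CommRing C] [Algebra A C] [Algebra.Smooth A C] {h : C}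
    (hh : UR A C h) (q : Ideal C) [q.IsPrime] :
    ∃ (T : Type u) (_ : CommRing T) (_ : HenselianLocalRing T) (_ : IsSepClosed (ResidueField T)) (_ : Algebra A T)
      (_ : Algebra C T) (_ : IsScalarTower A C T) (_ : Algebra.WeaklyEtale C T),
      (maximalIdeal T).comap (algebraMap C T) = q ∧
      Function.Bijective (rs (P := P) (IsScalarTower.toAlgHom A T (Localization.Away (algebraMap C T h)))) := by
  let p : Ideal A := q.comap (algebraMap A C)
  let Cq := Localization.AtPrime q
  let Ap := Localization.AtPrime p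
  obtain ⟨T, _, _, algT, hlT, shT⟩ := Groth.Agent.S0537.result Cq
  obtain ⟨R, _, _, algR, hlR, shR⟩ := Groth.Agent.S0537.result Ap
  haveI := shT
  haveI := shR
  haveI := shT.henselian
  haveI := shR.henselian
  haveI : IsSepClosed (ResidueField T) := shT.isSepClosure.sep_closed
  haveI : IsSepClosed (ResidueField R) := shR.isSepClosure.sep_closed
  haveI : Algebra.WeaklyEtale Cq T := Groth.Agent.S0736.result _ _ (Groth.Agent.S12237.result Cq T)
  haveI : Algebra.WeaklyEtale Ap R := Groth.Agent.S0736.result _ _ (Groth.Agent.S12237.result Ap R)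
  letI : Algebra C T := ((algebraMap Cq T).comp (algebraMap C Cq)).toAlgebra
  haveI : IsScalarTower C Cq T := IsScalarTower.of_algebraMap_eq fun _ => rfl
  haveI : Algebra.WeaklyEtale C Cq := Groth.Agent.WEtNormalLib.weaklyEtale_localization _ _ q.primeCompl
  haveI : Algebra.WeaklyEtale C T := Algebra.WeaklyEtale.trans C Cq T
  letI : Algebra A R := ((algebraMap Ap R).comp (algebraMap A Ap)).toAlgebra
  haveI : IsScalarTower A Ap R := IsScalarTower.of_algebraMap_eq fun _ => rfl
  haveI : Algebra.WeaklyEtale A Ap := Groth.Agent.WEtNormalLib.weaklyEtale_localization _ _ p.primeCompl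
  haveI : Algebra.WeaklyEtale A R := Algebra.WeaklyEtale.trans A Ap R
  letI : Algebra A T := ((algebraMap C T).comp (algebraMap A C)).toAlgebra
  haveI : IsScalarTower A C T := IsScalarTower.of_algebraMap_eq fun _ => rfl
  haveI : IsLocalHom (Localization.localRingHom p q (algebraMap A C) rfl) :=
    Localization.isLocalHom_localRingHom _ _ _ _
  obtain ⟨ψ, hψ, hψ'⟩ := LocAcycBCLib.exists_lift (O := Ap) (R := R)
    ((algebraMap Cq T).comp (Localization.localRingHom p q (algebraMap A C) rfl))
  letI : Algebra R T := ψ.toAlgebra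
  haveI : IsLocalHom (algebraMap R T) := hψ
  haveI : IsScalarTower A R T := IsScalarTower.of_algebraMap_eq fun a => by
    show algebraMap Cq T (algebraMap C Cq (algebraMap A C a)) = ψ (algebraMap Ap R (algebraMap A Ap a))
    rw [← RingHom.comp_apply ψ, hψ', RingHom.comp_apply, Localization.localRingHom_to_map]
  refine ⟨T, inferInstance, inferInstance, inferInstance, inferInstance, inferInstance, inferInstance, inferInstance,
    ?_, ?_⟩
  · show (maximalIdeal T).comap ((algebraMap Cq T).comp (algebraMap C Cq)) = q
    rw [← Ideal.comap_comap, IsLocalRing.maximalIdeal_comap (algebraMap Cq T)]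
    exact IsLocalization.AtPrime.under_maximalIdeal Cq q
  · let C₁ : Type u := R ⊗[A] C
    let θ : C₁ →ₐ[R] T := Algebra.TensorProduct.lift (Algebra.ofId R T) (IsScalarTower.toAlgHom A C T)
      fun _ _ => Commute.all _ _
    letI : Algebra C₁ T := θ.toRingHom.toAlgebra
    haveI : IsScalarTower R C₁ T := IsScalarTower.of_algebraMap_eq fun r => (θ.commutes r).symm
    letI : Algebra C C₁ := (Algebra.TensorProduct.includeRight : C →ₐ[A] C₁).toRingHom.toAlgebra
    haveI : IsScalarTower C C₁ T := IsScalarTower.of_algebraMap_eq fun b => by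
      show algebraMap C T b = θ ((1 : R) ⊗ₜ[A] b)
      simp only [θ]
      erw [Algebra.TensorProduct.lift_tmul]
      rw [map_one, one_mul]
      rfl
    haveI : Algebra.WeaklyEtale C C₁ := by
      let e : C ⊗[A] R ≃ₐ[A] C₁ := Algebra.TensorProduct.comm A C R
      letI : Algebra (C ⊗[A] R) C₁ := e.toAlgHom.toRingHom.toAlgebra
      haveI : IsScalarTower C (C ⊗[A] R) C₁ := IsScalarTower.of_algebraMap_eq fun b => rfl
      haveI : Algebra.Etale (C ⊗[A] R) C₁ := RingHom.etale_algebraMap.1 (RingHom.Etale.of_bijective e.bijective)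
      exact Algebra.WeaklyEtale.trans C (C ⊗[A] R) C₁
    haveI : Algebra.WeaklyEtale C₁ T := Groth.Agent.S7127.result C C₁ T
    haveI : Module.Flat R T := Module.Flat.trans R C₁ T
    haveI : GeometricallyReduced (Spec.map (CommRingCat.ofHom (algebraMap R C₁))) := by
      haveI : Smooth (Spec.map (CommRingCat.ofHom (algebraMap R C₁))) :=
        (HasRingHomProperty.Spec_iff (P := @Smooth)).2 (RingHom.smooth_algebraMap.2 inferInstance)
      exact AbSchLib.geometricallyReduced_of_smooth _
    have hconn : ∀ (K : Type u) [Field K] [IsAlgClosed K] [Algebra R K], ConnectedSpace (PrimeSpectrum (K ⊗[R] T)) :=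
      fun K _ _ _ => EtProperH0Lib.connected_fibre_of_fp (A := C₁) K
    let Th := Localization.Away (algebraMap C T h)
    haveI : Module.Flat T Th := IsLocalization.flat Th (Submonoid.powers (algebraMap C T h))
    haveI : Module.Flat R Th := Module.Flat.trans R T Th
    have h1 := bijective_rs_of_conn hP (R := R) (T := T) hconn
    have h2 := bijective_rs_of_conn hP (R := R) (T := Th) fun K _ _ _ =>
      connected_fibre_away (A := A) (B := C) h hh hconn Th K
    have h3 : (rs (P := P) (IsScalarTower.toAlgHom A T Th)) ∘ (rs (P := P) (IsScalarTower.toAlgHom A R T)) =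
        rs (P := P) (IsScalarTower.toAlgHom A R Th) := funext fun x => by
      show rs _ (rs _ x) = _
      rw [rs_rs]
      exact congrArg (fun l => rs l x) (AlgHom.ext fun r => (IsScalarTower.algebraMap_apply R T Th r).symm)
    rw [← h3] at h2
    exact (Function.Bijective.of_comp_iff _ h1).1 h2

/-- Sections over a smooth algebra are determined by their restriction to a fibrewise regular basic open. -/
theorem rs_away_injective (hP : HasGerms P) {C : Type u} [CommRing C] [Algebra A C] [Algebra.Smooth A C] {h : C}
    (hh : UR A C h) : Function.Injective (rs (P := P) (IsScalarTower.toAlgHom A C (Localization.Away h))) := by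
  intro s t hst
  refine hP.ext fun G a hG => ?_
  obtain ⟨y⟩ := hG.nonempty
  let q : PrimeSpectrum C := a.left y
  obtain ⟨T, _, _, _, _, _, _, _, hq, hbij⟩ := exists_local hP hh q.asIdeal
  have hT : rs (IsScalarTower.toAlgHom A C T) s = rs (IsScalarTower.toAlgHom A C T) t := by
    refine hbij.1 ?_
    have h1 := congrArg (rs (awayMap (IsScalarTower.toAlgHom A C T) h)) hst
    rwa [rs_away, rs_away] at h1
  let L := AlgebraicClosure (ResidueField T)
  have hL : rs (IsScalarTower.toAlgHom A C L) s = rs (IsScalarTower.toAlgHom A C L) t := by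
    have h1 := congrArg (rs (IsScalarTower.toAlgHom A T L)) hT
    rw [rs_rs, rs_rs] at h1
    have h2 : (IsScalarTower.toAlgHom A T L).comp (IsScalarTower.toAlgHom A C T) = IsScalarTower.toAlgHom A C L :=
      AlgHom.ext fun c => (IsScalarTower.algebraMap_apply C T L c).symm
    rwa [h2] at h1
  have hmem := hP.mem_eqLocus (ovm (IsScalarTower.toAlgHom A C L)) (isGeo_ov L) hL (closedPoint L : PrimeSpectrum L)
  have hpt : (ovm (IsScalarTower.toAlgHom A C L)).left.base (closedPoint L : PrimeSpectrum L) = q := by
    refine PrimeSpectrum.ext ?_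
    show (closedPoint L).asIdeal.comap (algebraMap C L) = q.asIdeal
    rw [show (closedPoint L).asIdeal = ⊥ from maximalIdeal_eq_bot, ← hq, IsScalarTower.algebraMap_eq C T L,
      ← Ideal.comap_comap, IsScalarTower.algebraMap_eq T (ResidueField T) L, ← Ideal.comap_comap,
      Ideal.comap_bot_of_injective _ (algebraMap (ResidueField T) L).injective]
    exact congrArg (Ideal.comap (algebraMap C T)) IsLocalRing.ker_residue
  rw [hpt] at hmem
  exact eq_of_mem_eqLocus hmem a hG fun y' => by rw [hG.subsingleton y' y]

/-- Local extension of sections. -/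
theorem exists_local_extension (hP : HasGerms P) {C : Type u} [CommRing C] [Algebra A C] [Algebra.Smooth A C] {h : C}
    (hh : UR A C h) (y : P.obj (op (ov A (Localization.Away h)))) (q : PrimeSpectrum C) :
    ∃ (C' : Type u) (_ : CommRing C') (_ : Algebra A C') (_ : Algebra C C') (_ : IsScalarTower A C C')
      (_ : Algebra.Etale C C') (σ : P.obj (op (ov A C'))), q ∈ Set.range (PrimeSpectrum.comap (algebraMap C C')) ∧
      rs (IsScalarTower.toAlgHom A C' (Localization.Away (algebraMap C C' h))) σ =
        rs (awayMap (IsScalarTower.toAlgHom A C C') h) y := by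
  obtain ⟨T, _, _, _, _, _, _, _, hq, hbij⟩ := exists_local hP hh q.asIdeal
  obtain ⟨σ₀, hσ₀⟩ := hbij.2 (rs (awayMap (IsScalarTower.toAlgHom A C T) h) y)
  let L := AlgebraicClosure (ResidueField T)
  have hker : RingHom.ker (algebraMap T L) = maximalIdeal T := by
    rw [IsScalarTower.algebraMap_eq T (ResidueField T) L,
      RingHom.ker_comp_of_injective _ (algebraMap (ResidueField T) L).injective]
    exact IsLocalRing.ker_residue
  obtain ⟨W, hW, hWe, b, t, hb, ht⟩ := hP.exists_germ (ovm (IsScalarTower.toAlgHom A C L)) (isGeo_ov L)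
    (rs (IsScalarTower.toAlgHom A T L) σ₀)
  haveI := hWe
  obtain ⟨D, _, _, _, _, _, m, b', hb', hm⟩ := exists_etale_alg hW b (isGeo_ov L)
  obtain ⟨χ, rfl⟩ := exists_algHom b'
  have hχ : χ.comp (IsScalarTower.toAlgHom A C D) = IsScalarTower.toAlgHom A C L := by
    have h1 : ovm χ ≫ ovm (IsScalarTower.toAlgHom A C D) = ovm (IsScalarTower.toAlgHom A C L) := by
      rw [← hm, ← Category.assoc, hb', hb]
    rw [ovm_comp] at h1
    exact AlgHom.coe_ringHom_injective (congrArg CommRingCat.Hom.hom (Spec.map_injective (congrArg CommaMorphism.left h1)))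
  obtain ⟨l, hl⟩ := exists_etale_section (B := C) (C := D) (T := T) (L := L) hker χ.toRingHom (RingHom.ext fun c =>
    (AlgHom.congr_fun hχ c).trans (IsScalarTower.algebraMap_apply C T L c))
  let l' : D →ₐ[A] T := l.restrictScalars A
  let τ : P.obj (op (ov A D)) := P.map m.op t
  have hτ : rs l' τ = σ₀ := by
    refine rs_injective_of_local hP L hker ?_
    have h2 : (IsScalarTower.toAlgHom A T L).comp l' = χ := AlgHom.ext fun d => RingHom.congr_fun hl d
    rw [rs_rs, h2, ← ht, ← hb']
    exact (map_comp_apply' (P := P) (ovm χ) m t).symm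
  -- the locus of agreement
  let hD : D := algebraMap C D h
  let Dh := Localization.Away hD
  let y' : P.obj (op (ov A Dh)) := rs (awayMap (IsScalarTower.toAlgHom A C D) h) y
  let τ' : P.obj (op (ov A Dh)) := rs (IsScalarTower.toAlgHom A D Dh) τ
  let w : Ideal D := (maximalIdeal T).comap l.toRingHom
  haveI : w.IsPrime := Ideal.IsPrime.comap _
  let E := eqLocus (ov A Dh) τ' y'
  obtain ⟨J, hJ⟩ := (PrimeSpectrum.isClosed_iff_zeroLocus_ideal _).1
    (isOpen_eqLocus (ov A Dh) τ' y').isClosed_compl
  letI : Algebra D T := l.toRingHom.toAlgebra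
  haveI : IsScalarTower C D T := IsScalarTower.of_algebraMap_eq fun c => (l.commutes c).symm
  haveI : Algebra.WeaklyEtale D T := Groth.Agent.S7127.result C D T
  have hE : ∀ P' : PrimeSpectrum Dh, P'.asIdeal.comap (algebraMap D Dh) ≤ w → P' ∈ E := by
    intro P' hP'
    haveI : (maximalIdeal T).LiesOver w := ⟨rfl⟩
    obtain ⟨Pt, -, hPt, hPtP⟩ := Ideal.exists_ideal_le_liesOver_of_le (R := D) (S := T) (maximalIdeal T)
      (p := P'.asIdeal.comap (algebraMap D Dh)) (q := w) hP'
    let Th := Localization.Away (algebraMap C T h)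
    let μ : Dh →ₐ[A] Localization.Away (l' hD) := awayMap l' hD
    have hPth : l' hD ∉ Pt := fun hm' => by
      have h3 : hD ∈ P'.asIdeal.comap (algebraMap D Dh) := by
        rw [hPtP.over]
        exact hm'
      exact P'.isPrime.ne_top (Ideal.eq_top_of_isUnit_mem _ h3 (IsLocalization.Away.algebraMap_isUnit hD))
    obtain ⟨Pt', hPt'⟩ : (⟨Pt, hPt⟩ : PrimeSpectrum T) ∈
        Set.range (PrimeSpectrum.comap (algebraMap T (Localization.Away (l' hD)))) := by
      rw [PrimeSpectrum.localization_away_comap_range (Localization.Away (l' hD)) (l' hD)]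
      exact hPth
    have hP'eq : PrimeSpectrum.comap μ.toRingHom Pt' = P' := by
      apply PrimeSpectrum.localization_comap_injective Dh (Submonoid.powers hD)
      refine PrimeSpectrum.ext ?_
      show (Pt'.asIdeal.comap μ.toRingHom).comap (algebraMap D Dh) = P'.asIdeal.comap (algebraMap D Dh)
      rw [hPtP.over, show Pt = Pt'.asIdeal.comap (algebraMap T (Localization.Away (l' hD))) from
        (congrArg PrimeSpectrum.asIdeal hPt').symm, Ideal.under_def, Ideal.comap_comap, Ideal.comap_comap]
      exact congrArg (fun k : D →+* Localization.Away (l' hD) => Ideal.comap k Pt'.asIdeal)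
        (congrArg AlgHom.toRingHom (awayMap_comp l' hD))
    have hll : l' hD = algebraMap C T h := l.commutes h
    have heq : rs μ τ' = rs μ y' := by
      show rs (awayMap l' hD) (rs _ τ) = _
      rw [rs_away, hτ, rs_rs]
      have key : ∀ (c : T) (hc : l' hD = c) (x : P.obj (op (ov A (Localization.Away c)))),
          rs (IsScalarTower.toAlgHom A T (Localization.Away c)) σ₀ = x →
          (∀ z : Localization.Away h →ₐ[A] Localization.Away c,
            z.comp (IsScalarTower.toAlgHom A C (Localization.Away h)) =
              (IsScalarTower.toAlgHom A T (Localization.Away c)).comp (IsScalarTower.toAlgHom A C T) → rs z y = x) →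
          rs (IsScalarTower.toAlgHom A T (Localization.Away (l' hD))) σ₀ =
            rs ((awayMap l' hD).comp (awayMap (IsScalarTower.toAlgHom A C D) h)) y := by
        rintro c rfl x hx hz
        rw [hx, hz _ ?_]
        rw [AlgHom.comp_assoc, awayMap_comp, ← AlgHom.comp_assoc,
          show (awayMap l' hD).comp (IsScalarTower.toAlgHom A D (Localization.Away ((IsScalarTower.toAlgHom A C D) h))) = _
            from awayMap_comp l' hD, AlgHom.comp_assoc]
        exact congrArg _ (AlgHom.ext fun c => l.commutes c)
      refine key _ hll _ hσ₀ fun z hz => congrArg (fun z => rs z y) (AlgHom.coe_ringHom_injective ?_)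
      refine IsLocalization.ringHom_ext (Submonoid.powers h) ?_
      exact (congrArg AlgHom.toRingHom hz).trans
        (congrArg AlgHom.toRingHom (awayMap_comp (IsScalarTower.toAlgHom A C T) h)).symm
    obtain ⟨G, a, hG, ha⟩ := exists_geo_at (ov A (Localization.Away (l' hD))) Pt'
    obtain ⟨y₁⟩ := hG.nonempty
    have hmem : (a ≫ ovm μ).left.base y₁ ∈ E := hP.mem_eqLocus (a ≫ ovm μ) hG (by
      rw [map_comp_apply', map_comp_apply']
      exact congrArg (P.map a.op) heq) y₁
    have hpt : (a ≫ ovm μ).left.base y₁ = P' := by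
      show (ovm μ).left.base (a.left.base y₁) = P'
      rw [ha y₁]
      exact hP'eq
    rwa [hpt] at hmem
  have hJw : ¬ J.comap (algebraMap D Dh) ≤ w := fun hle => by
    obtain ⟨P0, hP0, hP0w⟩ := Ideal.exists_minimalPrimes_le hle
    obtain ⟨P', hP', hP'eq⟩ := Ideal.exists_minimalPrimes_comap_eq (algebraMap D Dh) P0 hP0
    have h1 : (⟨P', hP'.1.1⟩ : PrimeSpectrum Dh) ∈ Eᶜ := by
      rw [hJ]
      exact hP'.1.2
    exact h1 (hE ⟨P', hP'.1.1⟩ (hP'eq.le.trans hP0w))
  obtain ⟨g, hgJ, hgw⟩ := Set.not_subset.1 hJw
  let Dg := Localization.Away g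
  haveI : Algebra.Etale C Dg := Algebra.Etale.comp C D Dg
  refine ⟨Dg, inferInstance, inferInstance, inferInstance, inferInstance, inferInstance,
    rs (IsScalarTower.toAlgHom A D Dg) τ, ?_, ?_⟩
  · obtain ⟨w', hw'⟩ : (⟨w, inferInstance⟩ : PrimeSpectrum D) ∈
        Set.range (PrimeSpectrum.comap (algebraMap D Dg)) := by
      rw [PrimeSpectrum.localization_away_comap_range Dg g]
      exact hgw
    refine ⟨w', ?_⟩
    rw [IsScalarTower.algebraMap_eq C D Dg, PrimeSpectrum.comap_comp_apply, hw']
    refine PrimeSpectrum.ext ?_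
    show ((maximalIdeal T).comap l.toRingHom).comap (algebraMap C D) = q.asIdeal
    rw [Ideal.comap_comap, show l.toRingHom.comp (algebraMap C D) = algebraMap C T from l.comp_algebraMap]
    exact hq
  · let c := algebraMap C Dg h
    let ν : Dh →ₐ[A] Localization.Away c := IsLocalization.liftAlgHom (M := Submonoid.powers hD)
      (f := (IsScalarTower.toAlgHom A Dg (Localization.Away c)).comp (IsScalarTower.toAlgHom A D Dg)) (fun z => by
        obtain ⟨_, n, rfl⟩ := z
        rw [map_pow]
        refine IsUnit.pow n ?_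
        show IsUnit (algebraMap Dg (Localization.Away c) (algebraMap D Dg hD))
        rw [← IsScalarTower.algebraMap_apply C D Dg]
        exact IsLocalization.Away.algebraMap_isUnit c)
    have hν : ν.comp (IsScalarTower.toAlgHom A D Dh) =
        (IsScalarTower.toAlgHom A Dg (Localization.Away c)).comp (IsScalarTower.toAlgHom A D Dg) :=
      AlgHom.ext fun d => IsLocalization.lift_eq _ d
    have hrange : ∀ z : PrimeSpectrum (Localization.Away c), PrimeSpectrum.comap ν.toRingHom z ∈ E := fun z => by
      by_contra hz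
      have h1 : PrimeSpectrum.comap ν.toRingHom z ∈ Eᶜ := hz
      rw [hJ] at h1
      have h2 : ν (algebraMap D Dh g) ∈ z.asIdeal := h1 hgJ
      rw [show ν (algebraMap D Dh g) = algebraMap Dg (Localization.Away c) (algebraMap D Dg g) from
        AlgHom.congr_fun hν g] at h2
      exact z.isPrime.ne_top (Ideal.eq_top_of_isUnit_mem _ h2 ((IsLocalization.Away.algebraMap_isUnit g).map _))
    have hfin : rs ν τ' = rs ν y' := hP.ext fun G a hG => by
      obtain ⟨y₁⟩ := hG.nonempty
      show P.map a.op (P.map (ovm ν).op τ') = P.map a.op (P.map (ovm ν).op y')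
      rw [← map_comp_apply', ← map_comp_apply']
      exact eq_of_mem_eqLocus (hrange (a.left y₁)) (a ≫ ovm ν) hG fun y₂ => by
        rw [hG.subsingleton y₂ y₁]
        rfl
    rw [rs_rs, rs_rs, hν] at hfin
    rw [rs_rs]
    refine hfin.trans (congrArg (fun z => rs z y) (AlgHom.coe_ringHom_injective ?_))
    refine IsLocalization.ringHom_ext (Submonoid.powers h) (RingHom.ext fun z => ?_)
    show ν (awayMap (IsScalarTower.toAlgHom A C D) h (algebraMap C _ z)) =
      awayMap (IsScalarTower.toAlgHom A C Dg) h (algebraMap C _ z)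
    rw [show awayMap (IsScalarTower.toAlgHom A C D) h (algebraMap C _ z) = algebraMap D Dh (algebraMap C D z) from
        IsLocalization.lift_eq _ z,
      show awayMap (IsScalarTower.toAlgHom A C Dg) h (algebraMap C _ z) =
        algebraMap Dg (Localization.Away c) (algebraMap C Dg z) from IsLocalization.lift_eq _ z,
      IsScalarTower.algebraMap_apply C D Dg]
    exact AlgHom.congr_fun hν _

/-- Sections over a smooth algebra are sections over a fibrewise regular basic open. -/
theorem bijective_rs_away (hP : HasGerms P) {C : Type u} [CommRing C] [Algebra A C] [Algebra.Smooth A C] {h : C}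
    (hh : UR A C h) : Function.Bijective (rs (P := P) (IsScalarTower.toAlgHom A C (Localization.Away h))) := by
  refine ⟨rs_away_injective hP hh, fun y => ?_⟩
  choose D iD iA iC iT iE σ hrg hσ using exists_local_extension hP hh y
  obtain ⟨s, hs⟩ := hP.exists_glue (T := ov A C) (fun q => ov A (D q))
    (fun q => ovm (IsScalarTower.toAlgHom A C (D q)))
    (fun q => by
      show Etale (Spec.map (CommRingCat.ofHom (algebraMap C (D q))))
      exact (HasRingHomProperty.Spec_iff (P := @Etale)).2 (RingHom.etale_algebraMap.2 (iE q)))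
    (fun q => ⟨q, hrg q⟩) σ fun i j G a b hG hab => by
      obtain ⟨L, _, _, _, ⟨e⟩⟩ := exists_geo_iso hG
      obtain ⟨α, hα⟩ := exists_algHom (e.hom ≫ a)
      obtain ⟨β, hβ⟩ := exists_algHom (e.hom ≫ b)
      have hαβ : α.comp (IsScalarTower.toAlgHom A C (D i)) = β.comp (IsScalarTower.toAlgHom A C (D j)) := by
        have h1 : ovm α ≫ ovm (IsScalarTower.toAlgHom A C (D i)) = ovm β ≫ ovm (IsScalarTower.toAlgHom A C (D j)) := by
          rw [hα, hβ, Category.assoc, Category.assoc, hab]
        rw [ovm_comp, ovm_comp] at h1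
        exact AlgHom.coe_ringHom_injective
          (congrArg CommRingCat.Hom.hom (Spec.map_injective (congrArg CommaMorphism.left h1)))
      let M : Type u := D i ⊗[C] D j
      let ι₁ : D i →ₐ[A] M := (Algebra.TensorProduct.includeLeft : D i →ₐ[A] M)
      let ι₂ : D j →ₐ[A] M := (Algebra.TensorProduct.includeRight : D j →ₐ[C] M).restrictScalars A
      haveI : Algebra.Etale C M := Algebra.Etale.comp C (D i) M
      haveI : Algebra.Smooth A M := Algebra.Smooth.comp A C M
      have hM : UR A M (algebraMap C M h) := hh.of_flat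
      have heq : rs ι₁ (σ i) = rs ι₂ (σ j) := by
        refine rs_away_injective hP hM ?_
        let hc := algebraMap C M h
        have k1 : ι₁ (algebraMap C (D i) h) = hc := rfl
        have k2 : ι₂ (algebraMap C (D j) h) = hc := (Algebra.TensorProduct.includeRight : D j →ₐ[C] M).commutes h
        have key : ∀ (d : Type u) [CommRing d] [Algebra A d] [Algebra C d] [IsScalarTower A C d] (ι : d →ₐ[A] M)
            (_ : ι.comp (IsScalarTower.toAlgHom A C d) = IsScalarTower.toAlgHom A C M) (x : P.obj (op (ov A d))),
            rs (IsScalarTower.toAlgHom A d (Localization.Away (algebraMap C d h))) x =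
              rs (awayMap (IsScalarTower.toAlgHom A C d) h) y →
            rs (IsScalarTower.toAlgHom A M (Localization.Away hc)) (rs ι x) =
              rs (awayMap (IsScalarTower.toAlgHom A C M) h) y := by
          intro d _ _ _ _ ι hι x hx
          have hι' : ι (algebraMap C d h) = hc := AlgHom.congr_fun hι h
          let μ : Localization.Away (algebraMap C d h) →ₐ[A] Localization.Away hc :=
            IsLocalization.liftAlgHom (M := Submonoid.powers (algebraMap C d h))
              (f := (IsScalarTower.toAlgHom A M (Localization.Away hc)).comp ι) (fun z => by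
                obtain ⟨_, n, rfl⟩ := z
                rw [map_pow]
                refine IsUnit.pow n ?_
                show IsUnit (algebraMap M (Localization.Away hc) (ι (algebraMap C d h)))
                rw [hι']
                exact IsLocalization.Away.algebraMap_isUnit hc)
          have hμ : μ.comp (IsScalarTower.toAlgHom A d _) = (IsScalarTower.toAlgHom A M (Localization.Away hc)).comp ι :=
            AlgHom.ext fun z => IsLocalization.lift_eq _ z
          have h2 := congrArg (rs μ) hx
          rw [rs_rs, rs_rs, hμ] at h2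
          rw [rs_rs, h2]
          refine congrArg (fun z => rs z y) (AlgHom.coe_ringHom_injective ?_)
          refine IsLocalization.ringHom_ext (Submonoid.powers h) (RingHom.ext fun z => ?_)
          show μ (awayMap (IsScalarTower.toAlgHom A C d) h (algebraMap C _ z)) =
            awayMap (IsScalarTower.toAlgHom A C M) h (algebraMap C _ z)
          rw [show awayMap (IsScalarTower.toAlgHom A C d) h (algebraMap C _ z) = algebraMap d _ (algebraMap C d z) from
              IsLocalization.lift_eq _ z,
            show awayMap (IsScalarTower.toAlgHom A C M) h (algebraMap C _ z) = algebraMap M _ (algebraMap C M z) from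
              IsLocalization.lift_eq _ z, ← show ι (algebraMap C d z) = algebraMap C M z from AlgHom.congr_fun hι z]
          exact AlgHom.congr_fun hμ _
        exact (key (D i) ι₁ (AlgHom.ext fun z => rfl) (σ i) (hσ i)).trans
          (key (D j) ι₂ (AlgHom.ext fun z => (Algebra.TensorProduct.includeRight : D j →ₐ[C] M).commutes z)
            (σ j) (hσ j)).symm
      letI : Algebra C L := ((α.comp (IsScalarTower.toAlgHom A C (D i))).toRingHom).toAlgebra
      let αC : D i →ₐ[C] L := AlgHom.mk α.toRingHom fun _ => rfl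
      let βC : D j →ₐ[C] L := AlgHom.mk β.toRingHom fun z => (AlgHom.congr_fun hαβ z).symm
      let δ0 : M →+* L := (Algebra.TensorProduct.lift αC βC fun _ _ => Commute.all _ _).toRingHom
      let δ : M →ₐ[A] L := AlgHom.mk δ0 fun z => by
        show δ0 ((algebraMap A (D i) z) ⊗ₜ[C] (1 : D j)) = _
        refine (Algebra.TensorProduct.lift_tmul _ _ _ _ _).trans ?_
        rw [map_one, mul_one]
        exact α.commutes z
      have hδ1 : δ.comp ι₁ = α := AlgHom.ext fun z => by
        show δ0 (z ⊗ₜ[C] (1 : D j)) = _
        refine (Algebra.TensorProduct.lift_tmul _ _ _ _ _).trans ?_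
        rw [map_one, mul_one]
        rfl
      have hδ2 : δ.comp ι₂ = β := AlgHom.ext fun z => by
        show δ0 ((1 : D i) ⊗ₜ[C] z) = _
        refine (Algebra.TensorProduct.lift_tmul _ _ _ _ _).trans ?_
        rw [map_one, one_mul]
        rfl
      have h3 := congrArg (rs δ) heq
      rw [rs_rs, rs_rs, hδ1, hδ2] at h3
      have hinj : Function.Injective (P.map e.hom.op) :=
        ((ConcreteCategory.isIso_iff_bijective (P.map e.hom.op)).1 inferInstance).1
      refine hinj ?_
      rw [← map_comp_apply', ← map_comp_apply', ← hα, ← hβ]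
      exact h3
  refine ⟨s, hP.ext fun G a hG => ?_⟩
  obtain ⟨y₁⟩ := hG.nonempty
  let q : PrimeSpectrum C := (a ≫ ovm (IsScalarTower.toAlgHom A C (Localization.Away h))).left.base y₁
  obtain ⟨w, hw⟩ := hrg q
  haveI : Etale (ovm (IsScalarTower.toAlgHom A C (D q))).left :=
    (HasRingHomProperty.Spec_iff (P := @Etale)).2 (RingHom.etale_algebraMap.2 (iE q))
  obtain ⟨b, hb, -⟩ := EtDescentLib.exists_lift (ovm (IsScalarTower.toAlgHom A C (D q)))
    (a ≫ ovm (IsScalarTower.toAlgHom A C (Localization.Away h))) hG w fun y₂ => by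
      rw [hG.subsingleton y₂ y₁]
      exact hw.symm
  obtain ⟨L, _, _, _, ⟨e⟩⟩ := exists_geo_iso hG
  obtain ⟨α, hα⟩ := exists_algHom (e.hom ≫ a)
  obtain ⟨β, hβ⟩ := exists_algHom (e.hom ≫ b)
  have hαβ : β.comp (IsScalarTower.toAlgHom A C (D q)) = α.comp (IsScalarTower.toAlgHom A C (Localization.Away h)) := by
    have h1 : ovm β ≫ ovm (IsScalarTower.toAlgHom A C (D q)) =
        ovm α ≫ ovm (IsScalarTower.toAlgHom A C (Localization.Away h)) := by
      rw [hα, hβ, Category.assoc, Category.assoc, hb]
    rw [ovm_comp, ovm_comp] at h1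
    exact AlgHom.coe_ringHom_injective
      (congrArg CommRingCat.Hom.hom (Spec.map_injective (congrArg CommaMorphism.left h1)))
  let μ : Localization.Away (algebraMap C (D q) h) →ₐ[A] L :=
    IsLocalization.liftAlgHom (M := Submonoid.powers (algebraMap C (D q) h)) (f := β) (fun z => by
      obtain ⟨_, n, rfl⟩ := z
      rw [map_pow]
      refine IsUnit.pow n ?_
      rw [show β (algebraMap C (D q) h) = α (algebraMap C (Localization.Away h) h) from AlgHom.congr_fun hαβ h]
      exact (IsLocalization.Away.algebraMap_isUnit h).map α)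
  have hμ : μ.comp (IsScalarTower.toAlgHom A (D q) _) = β := AlgHom.ext fun z => IsLocalization.lift_eq _ z
  have h4 := congrArg (rs μ) (hσ q)
  rw [rs_rs, rs_rs, hμ] at h4
  have h5 : μ.comp (awayMap (IsScalarTower.toAlgHom A C (D q)) h) = α := by
    refine AlgHom.coe_ringHom_injective (IsLocalization.ringHom_ext (Submonoid.powers h) (RingHom.ext fun z => ?_))
    show μ (awayMap (IsScalarTower.toAlgHom A C (D q)) h (algebraMap C _ z)) = α (algebraMap C _ z)
    rw [show awayMap (IsScalarTower.toAlgHom A C (D q)) h (algebraMap C _ z) = algebraMap (D q) _ (algebraMap C (D q) z)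
      from IsLocalization.lift_eq _ z]
    exact (IsLocalization.lift_eq _ _).trans (AlgHom.congr_fun hαβ z)
  have hs' : rs (IsScalarTower.toAlgHom A C (D q)) s = σ q := hs q
  rw [h5, ← hs', rs_rs, hαβ, ← rs_rs] at h4
  have hinj : Function.Injective (P.map e.hom.op) :=
    ((ConcreteCategory.isIso_iff_bijective (P.map e.hom.op)).1 inferInstance).1
  refine hinj ?_
  rw [← map_comp_apply', ← map_comp_apply', ← hα]
  exact h4

end

end FibDenseLib
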